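import Mathlib

/-!
Arithmetic of the bound `(q^n - q)/(q - 1)` and the divisibility obstructions.
-/

set_option autoImplicit false

namespace CfsgLib.FgsC.MinDeg

/-- `(q^n - q)/(q - 1)`. -/
def bnd (q n : ℕ) : ℕ := (q ^ n - q) / (q - 1)

theorem bnd_mul {q n : ℕ} (hq : 1 ≤ q) (hn : 1 ≤ n) : bnd q n * (q - 1) + q = q ^ n := by
  obtain ⟨m, rfl⟩ : ∃ m, n = m + 1 := ⟨n - 1, by omega⟩
  have hd : (q - 1) ∣ q ^ (m + 1) - q := by
    have h := Nat.sub_dvd_pow_sub_pow q 1 m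
    rw [one_pow] at h
    rw [pow_succ']
    have h' := Dvd.dvd.mul_left h q
    rwa [Nat.mul_sub_one] at h'
  rw [bnd, Nat.div_mul_cancel hd]
  have : q ≤ q ^ (m + 1) := Nat.le_self_pow (by omega) q
  omega

theorem bnd_succ {q r : ℕ} (hq : 2 ≤ q) (hr : 1 ≤ r) : bnd q (r + 1) = bnd q r + q ^ r := by
  refine Nat.eq_of_mul_eq_mul_right (show 0 < q - 1 by omega) ?_
  have h1 := bnd_mul (q := q) (n := r + 1) (by omega) (by omega)
  have h2 := bnd_mul (q := q) (n := r) (by omega) hr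
  have h3 : q ^ r * (q - 1) + q ^ r = q ^ (r + 1) := by
    obtain ⟨Q, rfl⟩ : ∃ Q, q = Q + 1 := ⟨q - 1, by omega⟩
    rw [Nat.add_sub_cancel]
    ring
  rw [add_mul]
  omega

theorem bnd_two {q : ℕ} (hq : 2 ≤ q) : bnd q 2 = q := by
  rw [bnd_succ hq le_rfl, pow_one]
  simp [bnd]

theorem bnd_add_two_le {q r : ℕ} (hq : 2 ≤ q) (hr : 1 ≤ r) : bnd q r + 2 ≤ q ^ r := by
  have h := bnd_mul (q := q) (n := r) (by omega) hr
  have : bnd q r ≤ bnd q r * (q - 1) := Nat.le_mul_of_pos_right _ (by omega)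
  omega

theorem bnd_pos {q r : ℕ} (hq : 2 ≤ q) (hr : 2 ≤ r) : 0 < bnd q r := by
  obtain ⟨m, rfl⟩ : ∃ m, r = m + 1 := ⟨r - 1, by omega⟩
  rw [bnd_succ hq (by omega)]
  have : 0 < q ^ m := pow_pos (by omega) m
  omega

/-- The degree one below the bound is not possible. -/
theorem no_dvd {q r X : ℕ} (hq : 2 ≤ q) (hr : 2 ≤ r)
    (hX : X * (q - 1) = (q ^ (r + 1) - 1) * (q ^ r - 1))
    (hd : q ^ r - 1 + bnd q r ∣ X * q ^ r) : False := by
  have hb := bnd_mul (q := q) (n := r) (by omega) (by omega)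
  have h2 := bnd_add_two_le hq (show 1 ≤ r by omega)
  have hpos := bnd_pos hq hr
  set b := bnd q r
  obtain ⟨k, hk⟩ : ∃ k, k = q ^ r - 1 + b := ⟨_, rfl⟩
  rw [← hk] at hd
  have h1 : 1 ≤ q ^ r := Nat.one_le_pow _ _ (by omega)
  have h1' : 1 ≤ q ^ (r + 1) := Nat.one_le_pow _ _ (by omega)
  have hk' : (k : ℤ) = (q : ℤ) ^ r - 1 + b := by
    rw [hk]; push_cast [Nat.cast_sub h1]; ring
  have hb' : (b : ℤ) * ((q : ℤ) - 1) + q = (q : ℤ) ^ r := by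
    have := congrArg (fun x : ℕ => (x : ℤ)) hb
    push_cast [Nat.cast_sub (show 1 ≤ q by omega)] at this
    exact this
  have hcop : IsCoprime (k : ℤ) (q : ℤ) :=
    ⟨(q : ℤ) - 1, 2 - (q : ℤ) ^ r, by rw [hk']; linear_combination hb'⟩
  have hX' : (X : ℤ) * ((q : ℤ) - 1) = ((q : ℤ) ^ (r + 1) - 1) * ((q : ℤ) ^ r - 1) := by
    have := congrArg (fun x : ℕ => (x : ℤ)) hX
    push_cast [Nat.cast_sub (show 1 ≤ q by omega), Nat.cast_sub h1, Nat.cast_sub h1'] at this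
    exact this
  have hdX : (k : ℤ) ∣ (X : ℤ) := by
    refine (hcop.pow_right (n := r)).dvd_of_dvd_mul_right ?_
    exact_mod_cast hd
  have hK : (k : ℤ) * ((q : ℤ) - 1) ∣ 2 * ((q : ℤ) ^ r - 1) * ((q : ℤ) - 1) := by
    have e : (2 : ℤ) * ((q : ℤ) ^ r - 1) * ((q : ℤ) - 1) =
        (X : ℤ) * ((q : ℤ) - 1) - (k : ℤ) * ((q : ℤ) - 1) * ((q : ℤ) ^ r - 1) := by
      rw [hX', hk', pow_succ]
      linear_combination ((q : ℤ) ^ r - 1) * hb'
    rw [e]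
    exact dvd_sub (mul_dvd_mul_right hdX _) (dvd_mul_right _ _)
  have hK' : (k : ℤ) ∣ 2 * ((q : ℤ) ^ r - 1) :=
    (mul_dvd_mul_iff_right (show ((q : ℤ) - 1) ≠ 0 by omega)).1 hK
  obtain ⟨c, hc⟩ : k ∣ 2 * (q ^ r - 1) := by
    refine Int.natCast_dvd_natCast.1 ?_
    push_cast [Nat.cast_sub h1]
    exact hK'
  have hkgt : q ^ r - 1 < k := by omega
  rcases Nat.lt_or_ge c 2 with hc2 | hc2
  · interval_cases c <;> omega
  · have : k * 2 ≤ k * c := Nat.mul_le_mul_left k hc2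
    omega

/-- In dimension three, two below the bound forces `q ∈ {2, 4, 10}`. -/
theorem no_dvd_three {q X : ℕ} (hq : 2 ≤ q) (hX : X * (q - 1) = (q ^ 3 - 1) * (q ^ 2 - 1))
    (hd : (q + 2) * (q - 1) ∣ X * q ^ 2) : q = 2 ∨ q = 4 ∨ q = 10 := by
  obtain ⟨Q, rfl⟩ : ∃ Q, q = Q + 1 := ⟨q - 1, by omega⟩
  rw [Nat.add_sub_cancel] at hX hd
  have hX' : (X : ℤ) * (Q : ℤ) = (((Q : ℤ) + 1) ^ 3 - 1) * (((Q : ℤ) + 1) ^ 2 - 1) := by
    have := congrArg (fun x : ℕ => (x : ℤ)) hX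
    push_cast [Nat.cast_sub (show 1 ≤ (Q + 1) ^ 3 from Nat.one_le_pow _ _ (by omega)),
      Nat.cast_sub (show 1 ≤ (Q + 1) ^ 2 from Nat.one_le_pow _ _ (by omega))] at this
    exact this
  set x : ℤ := (Q : ℤ) + 1
  have hx : (Q : ℤ) = x - 1 := by simp [x]
  have hXe : (X : ℤ) = (x ^ 2 + x + 1) * (x ^ 2 - 1) := by
    refine mul_right_cancel₀ (show (Q : ℤ) ≠ 0 by omega) ?_
    rw [hX', hx]
    ring
  have hdz : ((x + 2) * (Q : ℤ)) ∣ (X : ℤ) * x ^ 2 := by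
    have := Int.natCast_dvd_natCast.2 hd
    simpa [x] using this
  have hd' : (x + 2) ∣ (x + 1) * (x ^ 2 + x + 1) * x ^ 2 := by
    refine (mul_dvd_mul_iff_right (show (Q : ℤ) ≠ 0 by omega)).1 ?_
    refine hdz.trans (dvd_of_eq ?_)
    rw [hXe, hx]
    ring
  have h12 : (x + 2) ∣ (12 : ℤ) := by
    have e : (12 : ℤ) = (x + 2) * (x ^ 4 + 2 * x ^ 2 - 3 * x + 6) - (x + 1) * (x ^ 2 + x + 1) * x ^ 2 := by ring
    rw [e]
    exact dvd_sub (dvd_mul_right _ _) hd'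
  have h12' : Q + 1 + 2 ∣ 12 := by
    refine Int.natCast_dvd_natCast.1 ?_
    simpa [x] using h12
  have := Nat.le_of_dvd (by norm_num) h12'
  have hQ : Q ≤ 9 := by omega
  interval_cases Q <;> omega

end CfsgLib.FgsC.MinDeg
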