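import Mathlib

/-!
Weight projections of a finite abelian group acting on a complex vector space, with constant trace on the
non-trivial elements.
-/

set_option autoImplicit false

namespace CfsgLib.FgsC.MinDeg

open Module

variable {α : Type*} [AddCommGroup α] [Fintype α] {V : Type*} [AddCommGroup V] [Module ℂ V]

/-- The projection onto the weight `χ`. -/
noncomputable def wp (A : AddChar α (Module.End ℂ V)) (χ : AddChar α ℂ) : Module.End ℂ V :=
  (Fintype.card α : ℂ)⁻¹ • ∑ x : α, χ (-x) • A x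

variable (A : AddChar α (Module.End ℂ V))

theorem mul_wp (χ : AddChar α ℂ) (p : α) : A p * wp A χ = χ p • wp A χ := by
  simp only [wp, mul_smul_comm, Finset.mul_sum, smul_comm (χ p), Finset.smul_sum]
  refine Fintype.sum_equiv (Equiv.addLeft p) _ _ fun x => ?_
  simp only [Equiv.coe_addLeft, smul_smul]
  rw [← AddChar.map_add_eq_mul A, ← AddChar.map_add_eq_mul χ]
  congr 3
  abel

open scoped Classical in
theorem wp_mul (μ ν : AddChar α ℂ) : wp A μ * wp A ν = if μ = ν then wp A μ else 0 := by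
  have e : wp A μ * wp A ν =
      ((Fintype.card α : ℂ)⁻¹ * ∑ x : α, (ν - μ) x) • wp A ν := by
    conv_lhs => arg 1; rw [wp]
    rw [smul_mul_assoc, Finset.sum_mul, mul_smul, Finset.sum_smul]
    congr 1
    refine Finset.sum_congr rfl fun p _ => ?_
    rw [smul_mul_assoc, mul_wp, smul_smul, AddChar.sub_apply, mul_comm]
  rw [e, AddChar.sum_eq_ite]
  by_cases h : μ = ν
  · subst h
    rw [if_pos (sub_self _), if_pos rfl, inv_mul_cancel₀ (Nat.cast_ne_zero.2 Fintype.card_ne_zero), one_smul]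
  · rw [if_neg (sub_ne_zero.2 (Ne.symm h)), if_neg h, mul_zero, zero_smul]

theorem wp_idem (χ : AddChar α ℂ) : IsIdempotentElem (wp A χ) := by
  classical
  rw [IsIdempotentElem, wp_mul, if_pos rfl]

theorem sum_wp : ∑ χ : AddChar α ℂ, wp A χ = 1 := by
  classical
  simp only [wp, ← Finset.smul_sum]
  rw [Finset.sum_comm]
  simp only [← Finset.sum_smul, AddChar.sum_apply_eq_ite, neg_eq_zero]
  rw [Finset.sum_eq_single (0 : α) (fun p _ hp => by rw [if_neg hp, zero_smul]) (by simp), if_pos rfl,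
    AddChar.map_zero_eq_one, smul_smul, inv_mul_cancel₀ (Nat.cast_ne_zero.2 Fintype.card_ne_zero), one_smul]

theorem mul_wp_of_conj {g : Module.End ℂ V} (f : α ≃+ α) (hg : ∀ x, g * A x = A (f x) * g)
    {μ ν : AddChar α ℂ} (hμν : ∀ x, ν (f x) = μ x) : g * wp A μ = wp A ν * g := by
  simp only [wp, mul_smul_comm, smul_mul_assoc, Finset.mul_sum, Finset.sum_mul, hg]
  congr 1
  refine Fintype.sum_equiv f.toEquiv _ _ fun x => ?_
  rw [← hμν, map_neg]
  rfl

variable [FiniteDimensional ℂ V]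

/-- The multiplicity of the weight `χ`. -/
noncomputable def wd (χ : AddChar α ℂ) : ℕ := finrank ℂ (LinearMap.range (wp A χ))

theorem trace_wp (χ : AddChar α ℂ) : LinearMap.trace ℂ V (wp A χ) = wd A χ :=
  LinearMap.IsProj.trace (LinearMap.IsIdempotentElem.isProj_range _ (wp_idem A χ))

theorem sum_wd : ∑ χ : AddChar α ℂ, wd A χ = finrank ℂ V := by
  have h := congrArg (LinearMap.trace ℂ V) (sum_wp A)
  rw [map_sum, Module.End.one_eq_id, LinearMap.trace_id] at h
  simp only [trace_wp] at h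
  exact_mod_cast h

theorem wp_eq_zero {χ : AddChar α ℂ} (h : wd A χ = 0) : wp A χ = 0 :=
  LinearMap.range_eq_bot.1 (Submodule.finrank_eq_zero.1 h)

variable {A}

theorem card_wd_of_trace {τ : ℂ} (hτ : ∀ x, x ≠ 0 → LinearMap.trace ℂ V (A x) = τ) (χ : AddChar α ℂ) :
    (Fintype.card α : ℂ) * wd A χ = (finrank ℂ V - τ) + τ * ∑ x : α, χ x := by
  classical
  rw [← trace_wp, wp, map_smul, smul_eq_mul, mul_inv_cancel_left₀ (Nat.cast_ne_zero.2 Fintype.card_ne_zero),
    map_sum]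
  have h : ∀ x : α, LinearMap.trace ℂ V (χ (-x) • A x) =
      (if x = 0 then (finrank ℂ V - τ) else 0) + τ * χ (-x) := by
    intro x
    rw [map_smul, smul_eq_mul]
    by_cases hx : x = 0
    · subst hx
      rw [if_pos rfl, neg_zero, AddChar.map_zero_eq_one, AddChar.map_zero_eq_one, Module.End.one_eq_id,
        LinearMap.trace_id]
      ring
    · rw [if_neg hx, hτ x hx]; ring
  rw [Finset.sum_congr rfl fun x _ => h x, Finset.sum_add_distrib, Finset.sum_ite_eq', if_pos (Finset.mem_univ _),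
    ← Finset.mul_sum]
  congr 2
  exact Fintype.sum_equiv (Equiv.neg α) _ _ fun x => rfl

theorem card_wd_nonzero {τ : ℂ} (hτ : ∀ x, x ≠ 0 → LinearMap.trace ℂ V (A x) = τ) {χ : AddChar α ℂ}
    (hχ : χ ≠ 0) : (Fintype.card α : ℂ) * wd A χ = finrank ℂ V - τ := by
  classical
  rw [card_wd_of_trace hτ, AddChar.sum_eq_ite, if_neg hχ, mul_zero, add_zero]

theorem wd_eq {τ : ℂ} (hτ : ∀ x, x ≠ 0 → LinearMap.trace ℂ V (A x) = τ) {χ χ' : AddChar α ℂ} (hχ : χ ≠ 0)
    (hχ' : χ' ≠ 0) : wd A χ = wd A χ' := by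
  have h := (card_wd_nonzero hτ hχ).trans (card_wd_nonzero hτ hχ').symm
  exact_mod_cast mul_left_cancel₀ (Nat.cast_ne_zero.2 Fintype.card_ne_zero) h

/-- A non-trivial action with constant trace: every non-trivial weight occurs equally often. -/
theorem finrank_eq_wd {τ : ℂ} (hτ : ∀ x, x ≠ 0 → LinearMap.trace ℂ V (A x) = τ) {χ : AddChar α ℂ}
    (hχ : χ ≠ 0) : finrank ℂ V = wd A 0 + (Fintype.card α - 1) * wd A χ := by
  classical
  rw [← sum_wd A, ← Finset.add_sum_erase _ _ (Finset.mem_univ (0 : AddChar α ℂ)),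
    Finset.sum_congr rfl (g := fun _ => wd A χ) fun μ hμ => wd_eq hτ (Finset.ne_of_mem_erase hμ) hχ,
    Finset.sum_const, smul_eq_mul, Finset.card_erase_of_mem (Finset.mem_univ _), Finset.card_univ,
    AddChar.card_eq]

theorem wd_pos {τ : ℂ} (hτ : ∀ x, x ≠ 0 → LinearMap.trace ℂ V (A x) = τ) (hA : ∃ x, A x ≠ 1)
    {χ : AddChar α ℂ} (hχ : χ ≠ 0) : 0 < wd A χ := by
  classical
  rcases Nat.eq_zero_or_pos (wd A χ) with h | h
  swap
  · exact h
  exfalso
  have h0 : wp A 0 = 1 := by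
    rw [← sum_wp A, Finset.sum_eq_single (0 : AddChar α ℂ)
      (fun μ _ hμ => wp_eq_zero A ((wd_eq hτ hμ hχ).trans h)) (by simp)]
  obtain ⟨x, hx⟩ := hA
  have := mul_wp A 0 x
  rw [h0, mul_one, AddChar.zero_apply, one_smul] at this
  exact hx this

theorem card_sub_one_le {τ : ℂ} (hτ : ∀ x, x ≠ 0 → LinearMap.trace ℂ V (A x) = τ) (hA : ∃ x, A x ≠ 1) :
    Fintype.card α - 1 ≤ finrank ℂ V := by
  obtain ⟨x, hx⟩ := hA
  have hx0 : x ≠ 0 := fun h => hx (by rw [h, AddChar.map_zero_eq_one])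
  obtain ⟨χ, hχ⟩ := (AddChar.exists_apply_ne_zero (a := x)).2 hx0
  have hχ0 : χ ≠ 0 := fun h => hχ (by rw [h, AddChar.zero_apply])
  rw [finrank_eq_wd hτ hχ0]
  exact (Nat.le_mul_of_pos_right _ (wd_pos hτ ⟨x, hx⟩ hχ0)).trans (Nat.le_add_left _ _)

theorem exists_scalar {χ : AddChar α ℂ} (hχ : wd A χ = 1) {g : Module.End ℂ V}
    (hg : Commute g (wp A χ)) : ∃ μ : ℂ, g * wp A χ = μ • wp A χ := by
  obtain ⟨v, -, hv⟩ := finrank_eq_one_iff'.1 hχ
  obtain ⟨μ, hμ⟩ := hv ⟨g (v : V), by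
    obtain ⟨u, hu⟩ := v.2
    exact ⟨g u, by rw [← Module.End.mul_apply, ← hg.eq, Module.End.mul_apply, hu]⟩⟩
  refine ⟨μ, LinearMap.ext fun y => ?_⟩
  obtain ⟨c, hc⟩ := hv ⟨wp A χ y, LinearMap.mem_range_self _ _⟩
  have hc' : c • (v : V) = wp A χ y := congrArg Subtype.val hc
  have hμ' : μ • (v : V) = g (v : V) := congrArg Subtype.val hμ
  rw [Module.End.mul_apply, LinearMap.smul_apply, ← hc', map_smul, ← hμ', smul_comm]

/-- A commutator of two elements fixing a simple weight acts trivially on it. -/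
theorem comm_mul_wp {χ : AddChar α ℂ} (hχ : wd A χ = 1) {a a' b b' : Module.End ℂ V}
    (ha : Commute a (wp A χ)) (ha' : Commute a' (wp A χ)) (hb : Commute b (wp A χ))
    (hb' : Commute b' (wp A χ)) (haa : a * a' = 1) (hbb : b * b' = 1) :
    a * b * a' * b' * wp A χ = wp A χ := by
  obtain ⟨p, hp⟩ := exists_scalar hχ ha
  obtain ⟨p', hp'⟩ := exists_scalar hχ ha'
  obtain ⟨r, hr⟩ := exists_scalar hχ hb
  obtain ⟨r', hr'⟩ := exists_scalar hχ hb'
  have hpp : (p * p') • wp A χ = wp A χ := by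
    conv_rhs => rw [← one_mul (wp A χ), ← haa, mul_assoc, hp', mul_smul_comm, hp, smul_smul, mul_comm]
  have hrr : (r * r') • wp A χ = wp A χ := by
    conv_rhs => rw [← one_mul (wp A χ), ← hbb, mul_assoc, hr', mul_smul_comm, hr, smul_smul, mul_comm]
  rw [mul_assoc, hr', mul_smul_comm, mul_assoc, hp', mul_smul_comm, mul_assoc, hr, mul_smul_comm, hp,
    smul_smul, smul_smul, smul_smul, show r' * p' * r * p = (p * p') * (r * r') by ring,
    mul_smul, hrr, hpp]

theorem trace_mul_wp_eq_zero {g : Module.End ℂ V} (f : α ≃+ α) (hg : ∀ x, g * A x = A (f x) * g)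
    {μ : AddChar α ℂ} (hμ : ¬ ∀ x, μ (f x) = μ x) : LinearMap.trace ℂ V (g * wp A μ) = 0 := by
  classical
  let ν : AddChar α ℂ := μ.compAddMonoidHom f.symm.toAddMonoidHom
  have hν : ∀ x, ν (f x) = μ x := fun x => by simp [ν]
  have hne : μ ≠ ν := fun h => hμ fun x => by conv_lhs => rw [h, hν]
  have h : g * wp A μ = wp A ν * g := mul_wp_of_conj A f hg hν
  rw [← (wp_idem A μ).eq, ← mul_assoc, LinearMap.trace_mul_comm, h, ← mul_assoc, wp_mul, if_neg hne,
    zero_mul, map_zero]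

theorem trace_eq_sum (g : Module.End ℂ V) :
    LinearMap.trace ℂ V g = ∑ χ : AddChar α ℂ, LinearMap.trace ℂ V (g * wp A χ) := by
  rw [← map_sum, ← Finset.mul_sum, sum_wp, mul_one]

/-- An element with the common trace that fixes every simple weight it stabilises cannot fix the trivial
weight space. -/
theorem mul_wp_zero_ne {τ : ℂ} (hτ : ∀ x, x ≠ 0 → LinearMap.trace ℂ V (A x) = τ)
    (hone : ∀ χ : AddChar α ℂ, χ ≠ 0 → wd A χ = 1) {g : Module.End ℂ V} (f : α ≃+ α)
    (hg : ∀ x, g * A x = A (f x) * g) (hgτ : LinearMap.trace ℂ V g = τ)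
    (hfix : ∀ χ : AddChar α ℂ, χ ≠ 0 → (∀ x, χ (f x) = χ x) → g * wp A χ = wp A χ)
    {χ₁ : AddChar α ℂ} (hχ₁ : χ₁ ≠ 0) : g * wp A 0 ≠ wp A 0 := by
  classical
  intro h0
  have hk := card_wd_nonzero hτ hχ₁
  rw [hone χ₁ hχ₁, Nat.cast_one, mul_one, finrank_eq_wd hτ hχ₁, hone χ₁ hχ₁, mul_one] at hk
  rw [trace_eq_sum (A := A), ← Finset.add_sum_erase _ _ (Finset.mem_univ (0 : AddChar α ℂ)), h0, trace_wp,
    Finset.sum_congr rfl (g := fun χ : AddChar α ℂ => if (∀ x, χ (f x) = χ x) then (1 : ℂ) else 0) ?_,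
    Finset.sum_boole] at hgτ
  swap
  · intro χ hχ
    have hχ0 := Finset.ne_of_mem_erase hχ
    by_cases hf : ∀ x, χ (f x) = χ x
    · rw [if_pos hf, hfix χ hχ0 hf, trace_wp, hone χ hχ0, Nat.cast_one]
    · rw [if_neg hf, trace_mul_wp_eq_zero f hg hf]
  push_cast [Nat.cast_sub (Fintype.card_pos (α := α))] at hk
  have : ((((Finset.univ.erase (0 : AddChar α ℂ)).filter fun χ => ∀ x, χ (f x) = χ x).card : ℂ) + 1) = 0 := by
    linear_combination hgτ + hk
  exact Nat.cast_add_one_ne_zero _ this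

end CfsgLib.FgsC.MinDeg
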