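import Mathlib
import Cfsg.Agent.S2579
import Cfsg.Agent.Lib.FgsC.MinDeg.Weights

/-!
Transvections of `SL_(r+1)` in the form `1 + a ⊗ f`, the translation subgroup of the last column, the Levi
embedding of `SL_r`, and the number of transvections.
-/

set_option autoImplicit false

namespace CfsgLib.FgsC.MinDeg

open Matrix Module

variable {F : Type*} [Field F] {ι : Type} [Fintype ι] [DecidableEq ι]

/-- The transvection `1 + a ⊗ f`. -/
def tv (a f : ι → F) (h : f ⬝ᵥ a = 0) : Matrix.SpecialLinearGroup ι F :=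
  ⟨1 + vecMulVec a f, by
    rw [vecMulVec_eq Unit, det_one_add_replicateCol_mul_replicateRow, h, add_zero]⟩

@[simp] theorem coe_tv (a f : ι → F) (h : f ⬝ᵥ a = 0) :
    ((tv a f h : Matrix.SpecialLinearGroup ι F) : Matrix ι ι F) = 1 + vecMulVec a f := rfl

theorem sl_ext {A B : Matrix.SpecialLinearGroup ι F} (h : (A : Matrix ι ι F) = (B : Matrix ι ι F)) : A = B :=
  Subtype.ext h

theorem tv_congr {a a' f f' : ι → F} (h : f ⬝ᵥ a = 0) (h' : f' ⬝ᵥ a' = 0) (ha : a = a') (hf : f = f') :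
    tv a f h = tv a' f' h' := by subst ha hf; rfl

theorem tv_mul_tv {a a' f : ι → F} (h : f ⬝ᵥ a = 0) (h' : f ⬝ᵥ a' = 0) :
    tv a f h * tv a' f h' = tv (a + a') f (by rw [dotProduct_add, h, h', add_zero]) := by
  refine sl_ext ?_
  change (1 + vecMulVec a f) * (1 + vecMulVec a' f) = 1 + vecMulVec (a + a') f
  simp only [add_mul, mul_add, one_mul, mul_one, vecMulVec_mul_vecMulVec, h', zero_smul, vecMulVec_zero,
    add_vecMulVec]
  abel

theorem tv_zero_left (f : ι → F) (h : f ⬝ᵥ 0 = 0) : tv (0 : ι → F) f h = 1 := by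
  refine sl_ext ?_
  simp

theorem tv_inv {a f : ι → F} (h : f ⬝ᵥ a = 0) :
    (tv a f h)⁻¹ = tv (-a) f (by rw [dotProduct_neg, h, neg_zero]) := by
  rw [inv_eq_iff_mul_eq_one, tv_mul_tv]
  exact sl_ext (by simp)

theorem mul_tv {g : Matrix.SpecialLinearGroup ι F} {a a' f f' : ι → F} (h : f ⬝ᵥ a = 0)
    (h' : f' ⬝ᵥ a' = 0) (d : F) (ha : (g : Matrix ι ι F) *ᵥ a = d • a')
    (hf : f' ᵥ* (g : Matrix ι ι F) = d • f) : g * tv a f h = tv a' f' h' * g := by
  refine sl_ext ?_
  change (g : Matrix ι ι F) * (1 + vecMulVec a f) = (1 + vecMulVec a' f') * (g : Matrix ι ι F)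
  rw [mul_add, add_mul, mul_one,
    one_mul, mul_vecMulVec, vecMulVec_mul, ha, hf, smul_vecMulVec, vecMulVec_smul]

theorem tv_commutator {a b f g : ι → F} (hga : g ⬝ᵥ a = 0) (hfb : f ⬝ᵥ b = 0) (hfa : f ⬝ᵥ a = 0)
    (hgb : g ⬝ᵥ b = 1) :
    tv a g hga * tv b f hfb * (tv a g hga)⁻¹ * (tv b f hfb)⁻¹ = tv a f hfa := by
  rw [mul_inv_eq_iff_eq_mul, mul_inv_eq_iff_eq_mul]
  refine sl_ext ?_
  change (1 + vecMulVec a g) * (1 + vecMulVec b f) =
    (1 + vecMulVec a f) * (1 + vecMulVec b f) * (1 + vecMulVec a g)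
  simp only [mul_add, add_mul, mul_one, one_mul,
    vecMulVec_mul_vecMulVec, hga, hfb, hfa, hgb, zero_smul, one_smul, vecMulVec_zero, zero_mul, mul_zero]
  abel

theorem vecMulVec_eq_iff {a a' f f' : ι → F} (ha : a ≠ 0) (hf : f ≠ 0) :
    vecMulVec a f = vecMulVec a' f' ↔ ∃ t : Fˣ, a' = (t : F) • a ∧ f' = ((t⁻¹ : Fˣ) : F) • f := by
  constructor
  · intro h
    obtain ⟨i, hi⟩ := Function.ne_iff.1 ha
    obtain ⟨j, hj⟩ := Function.ne_iff.1 hf
    have h' : ∀ i j, a i * f j = a' i * f' j := fun i j => congrFun (congrFun h i) j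
    have hne : a' i * f' j ≠ 0 := by rw [← h']; exact mul_ne_zero hi hj
    obtain ⟨hi', hj'⟩ := mul_ne_zero_iff.1 hne
    refine ⟨Units.mk0 (f j / f' j) (div_ne_zero hj hj'), funext fun k => ?_, funext fun k => ?_⟩
    · rw [Pi.smul_apply, smul_eq_mul, Units.val_mk0, div_mul_eq_mul_div, eq_div_iff hj']
      linear_combination -h' k j
    · rw [Pi.smul_apply, smul_eq_mul, Units.val_inv_eq_inv_val, Units.val_mk0, inv_div, div_mul_eq_mul_div,
        eq_div_iff hj]
      have e1 := h' i k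
      have e2 := h' i j
      refine mul_left_cancel₀ hi' ?_
      linear_combination f k * e2 - f j * e1
  · rintro ⟨t, rfl, rfl⟩
    rw [smul_vecMulVec, vecMulVec_smul, smul_smul, ← Units.val_mul, mul_inv_cancel, Units.val_one, one_smul]

theorem isTransvection_tv {a f : ι → F} (h : f ⬝ᵥ a = 0) (ha : a ≠ 0) (hf : f ≠ 0) :
    Cfsg.IsTransvection ((tv a f h : Matrix.SpecialLinearGroup ι F) : Matrix ι ι F) := by
  refine ⟨?_, ?_⟩
  · rw [coe_tv, add_sub_cancel_left]
    refine le_antisymm (rank_vecMulVec_le _ _) (Nat.one_le_iff_ne_zero.2 fun h0 => ?_)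
    obtain ⟨i, hi⟩ := Function.ne_iff.1 ha
    obtain ⟨j, hj⟩ := Function.ne_iff.1 hf
    rw [Matrix.rank, Submodule.finrank_eq_zero, LinearMap.range_eq_bot] at h0
    have := congrFun (LinearMap.congr_fun h0 (Pi.single j 1)) i
    rw [mulVecLin_apply, mulVec_single_one] at this
    exact mul_ne_zero hi hj this
  · rw [coe_tv, add_sub_cancel_left, vecMulVec_mul_vecMulVec, h, zero_smul, vecMulVec_zero]

section Fin

variable {n : ℕ}

theorem isConj_tv [Finite F] (hn : 3 ≤ n) {a f a' f' : Fin n → F} (h : f ⬝ᵥ a = 0) (ha : a ≠ 0)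
    (hf : f ≠ 0) (h' : f' ⬝ᵥ a' = 0) (ha' : a' ≠ 0) (hf' : f' ≠ 0) : IsConj (tv a f h) (tv a' f' h') :=
  Cfsg.Agent.S2579.result hn _ _ (isTransvection_tv h ha hf) (isTransvection_tv h' ha' hf')

/-- The number of transvections. -/
theorem card_class_mul [Fintype F] (hn : 3 ≤ n) {a f : Fin n → F} (h : f ⬝ᵥ a = 0) (ha : a ≠ 0)
    (hf : f ≠ 0) : Nat.card {x // IsConj (tv a f h) x} * (Fintype.card F - 1) =
      (Fintype.card F ^ n - 1) * (Fintype.card F ^ (n - 1) - 1) := by
  classical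
  have hex : ∀ x : {x // IsConj (tv a f h) x}, ∃ (a' f' : Fin n → F) (h' : f' ⬝ᵥ a' = 0),
      a' ≠ 0 ∧ f' ≠ 0 ∧ tv a' f' h' = x.1 := by
    rintro ⟨x, hx⟩
    obtain ⟨g, rfl⟩ := isConj_iff.1 hx
    have hgg : ((g⁻¹ : Matrix.SpecialLinearGroup (Fin n) F) : Matrix (Fin n) (Fin n) F) *
        (g : Matrix (Fin n) (Fin n) F) = 1 := by
      exact (congrArg Subtype.val (inv_mul_cancel g))
    refine ⟨(g : Matrix (Fin n) (Fin n) F) *ᵥ a, f ᵥ* ((g⁻¹ : Matrix.SpecialLinearGroup (Fin n) F) :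
      Matrix (Fin n) (Fin n) F), ?_, ?_, ?_, ?_⟩
    · rw [dotProduct_mulVec, vecMul_vecMul, hgg, vecMul_one, h]
    · intro h0
      apply ha
      have := congrArg (((g⁻¹ : Matrix.SpecialLinearGroup (Fin n) F) : Matrix (Fin n) (Fin n) F) *ᵥ ·) h0
      rw [mulVec_mulVec, hgg, one_mulVec, mulVec_zero] at this
      exact this
    · intro h0
      apply hf
      have := congrArg (· ᵥ* (g : Matrix (Fin n) (Fin n) F)) h0
      rw [vecMul_vecMul, hgg, vecMul_one, zero_vecMul] at this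
      exact this
    · rw [eq_mul_inv_iff_mul_eq]
      refine (mul_tv h _ 1 (by simp) ?_).symm
      rw [one_smul, vecMul_vecMul, hgg, vecMul_one]
  choose A' F' H hA hF hx using hex
  let P := {p : (Fin n → F) × (Fin n → F) // p.1 ≠ 0 ∧ p.2 ≠ 0 ∧ p.2 ⬝ᵥ p.1 = 0}
  let Φ : {x // IsConj (tv a f h) x} × Fˣ → P := fun p =>
    ⟨((p.2 : F) • A' p.1, ((p.2⁻¹ : Fˣ) : F) • F' p.1), smul_ne_zero p.2.ne_zero (hA _),
      smul_ne_zero (p.2⁻¹).ne_zero (hF _), by rw [smul_dotProduct, dotProduct_smul, H, smul_zero, smul_zero]⟩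
  have hΦ : Function.Bijective Φ := by
    constructor
    · rintro ⟨x, t⟩ ⟨x', t'⟩ he
      have e1 : (t : F) • A' x = (t' : F) • A' x' := congrArg (fun p : P => p.1.1) he
      have e2 : ((t⁻¹ : Fˣ) : F) • F' x = ((t'⁻¹ : Fˣ) : F) • F' x' := congrArg (fun p : P => p.1.2) he
      have hxx : x = x' := by
        refine Subtype.ext (((hx x).symm.trans (Subtype.ext ?_)).trans (hx x'))
        rw [coe_tv, coe_tv]
        congr 1
        rw [vecMulVec_eq_iff (hA x) (hF x)]
        refine ⟨t'⁻¹ * t, ?_, ?_⟩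
        · rw [Units.val_mul, ← smul_smul, e1, smul_smul, ← Units.val_mul, inv_mul_cancel, Units.val_one, one_smul]
        · rw [_root_.mul_inv_rev, inv_inv, Units.val_mul, mul_comm, ← smul_smul, e2, smul_smul, ← Units.val_mul,
            mul_inv_cancel, Units.val_one, one_smul]
      subst hxx
      obtain ⟨i, hi⟩ := Function.ne_iff.1 (hA x)
      have := congrFun e1 i
      simp only [Pi.smul_apply, smul_eq_mul] at this
      exact Prod.ext rfl (Units.ext (mul_right_cancel₀ hi this))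
    · rintro ⟨⟨b, c⟩, hb, hc, hbc⟩
      let x : {x // IsConj (tv a f h) x} := ⟨tv b c hbc, isConj_tv hn h ha hf hbc hb hc⟩
      have he : vecMulVec (A' x) (F' x) = vecMulVec b c := by
        have := congrArg (fun y : Matrix.SpecialLinearGroup (Fin n) F => (y : Matrix (Fin n) (Fin n) F)) (hx x)
        simpa [x] using this
      obtain ⟨t, ht1, ht2⟩ := (vecMulVec_eq_iff (hA x) (hF x)).1 he
      exact ⟨(x, t), Subtype.ext (Prod.ext ht1.symm ht2.symm)⟩
  have hcard := Nat.card_congr (Equiv.ofBijective Φ hΦ)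
  rw [Nat.card_prod, Nat.card_units, Nat.card_eq_fintype_card (α := F)] at hcard
  rw [hcard]
  let e : P ≃ Σ b : {b : Fin n → F // b ≠ 0}, {c : Fin n → F // c ≠ 0 ∧ c ⬝ᵥ b.1 = 0} :=
    { toFun := fun p => ⟨⟨p.1.1, p.2.1⟩, ⟨p.1.2, p.2.2⟩⟩
      invFun := fun s => ⟨(s.1.1, s.2.1), s.1.2, s.2.2⟩
      left_inv := fun p => rfl
      right_inv := fun s => rfl }
  have hfib : ∀ b : {b : Fin n → F // b ≠ 0},
      Nat.card {c : Fin n → F // c ≠ 0 ∧ c ⬝ᵥ b.1 = 0} = Fintype.card F ^ (n - 1) - 1 := by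
    rintro ⟨b, hb⟩
    let φ : Dual F (Fin n → F) :=
      { toFun := fun c => c ⬝ᵥ b
        map_add' := fun c c' => add_dotProduct c c' b
        map_smul' := fun t c => smul_dotProduct t c b }
    have hφ : φ ≠ 0 := fun h0 => by
      obtain ⟨i, hi⟩ := Function.ne_iff.1 hb
      have := LinearMap.congr_fun h0 (Pi.single i 1)
      change Pi.single i 1 ⬝ᵥ b = 0 at this
      rw [single_dotProduct, one_mul] at this
      exact hi this
    have hker := Module.Dual.finrank_ker_add_one_of_ne_zero hφ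
    rw [Module.finrank_fin_fun] at hker
    have he : {c : Fin n → F // c ≠ 0 ∧ c ⬝ᵥ b = 0} ≃ {c : LinearMap.ker φ // c ≠ 0} :=
      { toFun := fun c => ⟨⟨c.1, LinearMap.mem_ker.2 c.2.2⟩, fun h0 => c.2.1 (congrArg Subtype.val h0)⟩
        invFun := fun c => ⟨c.1.1, fun h0 => c.2 (Subtype.ext h0), LinearMap.mem_ker.1 c.1.2⟩
        left_inv := fun c => rfl
        right_inv := fun c => rfl }
    rw [Nat.card_congr he, Nat.card_eq_fintype_card, Fintype.card_subtype_compl, Fintype.card_subtype_eq,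
      Module.card_eq_pow_finrank (K := F), show finrank F (LinearMap.ker φ) = n - 1 by omega]
  rw [Nat.card_congr e, Nat.card_sigma, Finset.sum_congr rfl fun b _ => hfib b, Finset.sum_const,
    Finset.card_univ, smul_eq_mul, Fintype.card_subtype_compl, Fintype.card_subtype_eq, Fintype.card_fun,
    Fintype.card_fin]

end Fin

section Block

variable {r : ℕ}

/-- The row functional of the last coordinate. -/
abbrev lastE (F : Type*) [Field F] (r : ℕ) : Fin (r + 1) → F := Pi.single (Fin.last r) 1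

/-- A vector with last coordinate zero. -/
abbrev ext0 (v : Fin r → F) : Fin (r + 1) → F := Fin.snoc v 0

theorem ext0_dot (f v : Fin r → F) : ext0 f ⬝ᵥ ext0 v = f ⬝ᵥ v := by
  simp [dotProduct, Fin.sum_univ_castSucc]

theorem lastE_dot (v : Fin r → F) : lastE F r ⬝ᵥ ext0 v = 0 := by
  simp [single_dotProduct]

theorem ext0_add (v w : Fin r → F) : ext0 (v + w) = ext0 v + ext0 w := by
  funext i
  refine Fin.lastCases ?_ ?_ i <;> simp

theorem ext0_smul (t : F) (v : Fin r → F) : ext0 (t • v) = t • ext0 v := by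
  funext i
  refine Fin.lastCases ?_ ?_ i <;> simp

theorem ext0_zero : ext0 (0 : Fin r → F) = 0 := by
  funext i
  refine Fin.lastCases ?_ ?_ i <;> simp

theorem ext0_single (i : Fin r) (t : F) : ext0 (Pi.single i t) = Pi.single i.castSucc t := by
  funext j
  refine Fin.lastCases ?_ ?_ j
  · simp [Pi.single_eq_of_ne (Fin.castSucc_lt_last i).ne']
  · intro j
    simp only [Fin.snoc_castSucc]
    by_cases h : j = i
    · subst h; simp
    · rw [Pi.single_eq_of_ne h, Pi.single_eq_of_ne (fun e => h (Fin.castSucc_inj.1 e))]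

theorem ext0_eq_zero {v : Fin r → F} (h : ext0 v = 0) : v = 0 := by
  funext i
  simpa using congrFun h i.castSucc

theorem lastE_ne : lastE F r ≠ 0 := fun h => one_ne_zero (α := F) (by simpa using congrFun h (Fin.last r))

/-- The translations of the last column. -/
def col (v : Fin r → F) : Matrix.SpecialLinearGroup (Fin (r + 1)) F := tv (ext0 v) (lastE F r) (lastE_dot v)

theorem col_add (v w : Fin r → F) : col (v + w) = col v * col w := by
  rw [col, col, col, tv_mul_tv]
  exact tv_congr _ _ (ext0_add v w) rfl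

theorem col_zero : col (0 : Fin r → F) = 1 := by
  refine sl_ext ?_
  change 1 + vecMulVec (ext0 (0 : Fin r → F)) (lastE F r) = 1
  rw [ext0_zero, zero_vecMulVec, add_zero]

/-- Conjugation of a translation by an element normalising the last column. -/
theorem mul_col {g : Matrix.SpecialLinearGroup (Fin (r + 1)) F} (d : F) {v w : Fin r → F}
    (hv : (g : Matrix (Fin (r + 1)) (Fin (r + 1)) F) *ᵥ ext0 v = d • ext0 w)
    (he : lastE F r ᵥ* (g : Matrix (Fin (r + 1)) (Fin (r + 1)) F) = d • lastE F r) :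
    g * col v = col w * g :=
  mul_tv _ _ d hv he

/-- The matrix of the Levi embedding. -/
def embM (A : Matrix (Fin r) (Fin r) F) : Matrix (Fin (r + 1)) (Fin (r + 1)) F :=
  Matrix.of fun i j => Fin.lastCases (Fin.lastCases (1 : F) (fun _ => 0) j)
    (fun i' => Fin.lastCases (0 : F) (fun j' => A i' j') j) i

theorem embM_mulVec (A : Matrix (Fin r) (Fin r) F) (v : Fin r → F) : embM A *ᵥ ext0 v = ext0 (A *ᵥ v) := by
  funext i
  refine Fin.lastCases ?_ ?_ i <;> simp [mulVec, dotProduct, embM, Fin.sum_univ_castSucc]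

theorem lastE_embM (A : Matrix (Fin r) (Fin r) F) : lastE F r ᵥ* embM A = lastE F r := by
  funext j
  rw [single_one_vecMul]
  refine Fin.lastCases ?_ ?_ j
  · simp [embM, row]
  · intro j
    simp [embM, row, Pi.single_eq_of_ne (Fin.castSucc_lt_last j).ne]

theorem det_embM (A : Matrix (Fin r) (Fin r) F) : (embM A).det = A.det := by
  rw [det_succ_row _ (Fin.last r), Fin.sum_univ_castSucc]
  have : (embM A).submatrix (Fin.last r).succAbove (Fin.last r).succAbove = A := by
    ext i j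
    simp [embM]
  rw [this]
  simp [embM, ← two_mul, pow_mul]

theorem embM_one : embM (1 : Matrix (Fin r) (Fin r) F) = 1 := by
  ext i j
  refine Fin.lastCases ?_ ?_ i <;> refine Fin.lastCases ?_ ?_ j <;>
    simp [embM, one_apply, Fin.castSucc_inj, (Fin.castSucc_lt_last _).ne, (Fin.castSucc_lt_last _).ne']

theorem embM_mul (A B : Matrix (Fin r) (Fin r) F) : embM (A * B) = embM A * embM B := by
  ext i j
  refine Fin.lastCases ?_ ?_ i <;> refine Fin.lastCases ?_ ?_ j <;>
    simp [embM, mul_apply, Fin.sum_univ_castSucc]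

/-- The Levi embedding. -/
def emb : Matrix.SpecialLinearGroup (Fin r) F →* Matrix.SpecialLinearGroup (Fin (r + 1)) F where
  toFun A := ⟨embM (A : Matrix (Fin r) (Fin r) F), by rw [det_embM, A.2]⟩
  map_one' := Subtype.ext embM_one
  map_mul' A B := Subtype.ext (embM_mul _ _)

theorem emb_tv {a f : Fin r → F} (h : f ⬝ᵥ a = 0) :
    emb (tv a f h) = tv (ext0 a) (ext0 f) (by rw [ext0_dot, h]) := by
  refine sl_ext ?_
  show embM (1 + vecMulVec a f) = 1 + vecMulVec (ext0 a) (ext0 f)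
  ext i j
  refine Fin.lastCases ?_ ?_ i <;> refine Fin.lastCases ?_ ?_ j <;>
    simp [embM, one_apply, vecMulVec_apply, Fin.castSucc_inj, (Fin.castSucc_lt_last _).ne,
      (Fin.castSucc_lt_last _).ne']

theorem emb_mul_col (A : Matrix.SpecialLinearGroup (Fin r) F) (v : Fin r → F) :
    emb A * col v = col ((A : Matrix (Fin r) (Fin r) F) *ᵥ v) * emb A :=
  mul_col 1 (by rw [one_smul]; exact embM_mulVec _ v) (by rw [one_smul]; exact lastE_embM _)

end Block

end CfsgLib.FgsC.MinDeg
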