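import Mathlib
import Cfsg.Agent.Lib.Classical.SLGen
import Cfsg.Agent.Lib.FgsC.MinDeg.Setup

/-!
The weights of the last column in a representation of `SL_(r+1)`: elements fixing simple weights, the
representation on the fixed space.
-/

set_option autoImplicit false

namespace CfsgLib.FgsC.MinDeg

open Matrix Module

section Generic

variable {G : Type*} [Group G] {V : Type} [AddCommGroup V] [Module ℂ V] (ρ : Representation ℂ G V)
variable {α : Type*} [AddCommGroup α]

/-- The action of a family of commuting group elements. -/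
noncomputable def act (c : AddChar α G) : AddChar α (Module.End ℂ V) := ρ.compAddChar c

theorem act_apply (c : AddChar α G) (x : α) : act ρ c x = ρ (c x) := rfl

theorem act_conj (c : AddChar α G) {g : G} (f : α → α) (h : ∀ x, g * c x = c (f x) * g) (x : α) :
    ρ g * act ρ c x = act ρ c (f x) * ρ g := by
  rw [act_apply, act_apply, ← map_mul, ← map_mul, h]

theorem mul_inv_apply (g : G) : ρ g * ρ g⁻¹ = 1 := by rw [← map_mul, mul_inv_cancel, map_one]

theorem inv_mul_apply (g : G) : ρ g⁻¹ * ρ g = 1 := by rw [← map_mul, inv_mul_cancel, map_one]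

theorem commute_inv {g : G} {T : Module.End ℂ V} (h : Commute (ρ g) T) : Commute (ρ g⁻¹) T := by
  change ρ g⁻¹ * T = T * ρ g⁻¹
  calc ρ g⁻¹ * T = ρ g⁻¹ * (T * (ρ g * ρ g⁻¹)) := by rw [mul_inv_apply, mul_one]
    _ = ρ g⁻¹ * ((ρ g * T) * ρ g⁻¹) := by rw [← mul_assoc T, ← h.eq]
    _ = T * ρ g⁻¹ := by rw [mul_assoc (ρ g), ← mul_assoc (ρ g⁻¹), inv_mul_apply, one_mul]

theorem trace_conj {g x y : G} (h : g * x = y * g) :
    LinearMap.trace ℂ V (ρ x) = LinearMap.trace ℂ V (ρ y) := by
  have hy : y = g * x * g⁻¹ := by rw [h, mul_inv_cancel_right]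
  rw [hy]
  calc LinearMap.trace ℂ V (ρ x) = LinearMap.trace ℂ V ((ρ g⁻¹ * ρ g) * ρ x) := by
        rw [inv_mul_apply, one_mul]
    _ = LinearMap.trace ℂ V (ρ g * ρ x * ρ g⁻¹) := by
        rw [LinearMap.trace_mul_comm ℂ (ρ g * ρ x) (ρ g⁻¹), mul_assoc]
    _ = LinearMap.trace ℂ V (ρ (g * x * g⁻¹)) := by rw [map_mul ρ, map_mul ρ]

theorem trace_isConj {x y : G} (h : IsConj x y) : LinearMap.trace ℂ V (ρ x) = LinearMap.trace ℂ V (ρ y) := by
  obtain ⟨g, rfl⟩ := isConj_iff.1 h
  exact trace_conj ρ (inv_mul_cancel_right (g * x) g).symm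

/-- An additive group automorphism from an injective linear map. -/
noncomputable def autOf {β : Type*} [AddCommGroup β] [Finite β] (f : β →+ β) (hf : Function.Injective f) :
    β ≃+ β :=
  AddEquiv.ofBijective f (Finite.injective_iff_bijective.1 hf)

@[simp] theorem autOf_apply {β : Type*} [AddCommGroup β] [Finite β] (f : β →+ β) (hf : Function.Injective f)
    (x : β) : autOf f hf x = f x := rfl

variable [Fintype α]

/-- The elements commuting with a weight projection. -/
def wstab (A : AddChar α (Module.End ℂ V)) (χ : AddChar α ℂ) : Subgroup G where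
  carrier := {g | Commute (ρ g) (wp A χ)}
  one_mem' := by simp
  mul_mem' := fun {a b} ha hb => by
    rw [Set.mem_setOf_eq, map_mul]
    exact ha.mul_left hb
  inv_mem' := fun {a} ha => commute_inv ρ ha

theorem commute_wp (c : AddChar α G) {g : G} (f : α ≃+ α) (h : ∀ x, g * c x = c (f x) * g)
    {χ : AddChar α ℂ} (hχ : ∀ x, χ (f x) = χ x) : g ∈ wstab ρ (act ρ c) χ :=
  mul_wp_of_conj (act ρ c) f (act_conj ρ c f h) hχ

theorem commute_wp_zero (c : AddChar α G) {g : G} (f : α → α) (hf : Function.Bijective f)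
    (h : ∀ x, g * c x = c (f x) * g) : g ∈ wstab ρ (act ρ c) 0 := by
  change ρ g * wp (act ρ c) 0 = wp (act ρ c) 0 * ρ g
  simp only [wp, AddChar.zero_apply, one_smul, mul_smul_comm, smul_mul_assoc, Finset.mul_sum, Finset.sum_mul,
    act_conj ρ c f h]
  congr 1
  exact Fintype.sum_bijective f hf _ _ fun x => rfl

theorem self_mem_wstab (c : AddChar α G) (x : α) (χ : AddChar α ℂ) : c x ∈ wstab ρ (act ρ c) χ :=
  commute_wp ρ c (AddEquiv.refl α) (fun y => by
    rw [AddEquiv.refl_apply, ← AddChar.map_add_eq_mul, ← AddChar.map_add_eq_mul, add_comm]) fun y => rfl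

/-- The fixed space as a representation of its stabiliser. -/
noncomputable def fixRep (A : AddChar α (Module.End ℂ V)) :
    Representation ℂ (wstab ρ A 0) (LinearMap.range (wp A 0)) where
  toFun g := (ρ (g : G)).restrict fun v hv => by
    obtain ⟨u, rfl⟩ := hv
    exact ⟨ρ (g : G) u, by rw [← Module.End.mul_apply, ← g.2.eq, Module.End.mul_apply]⟩
  map_one' := LinearMap.ext fun v => Subtype.ext (by simp)
  map_mul' a b := LinearMap.ext fun v => Subtype.ext (by simp)

theorem fixRep_eq_one_iff (A : AddChar α (Module.End ℂ V)) (g : wstab ρ A 0) :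
    fixRep ρ A g = 1 ↔ ρ (g : G) * wp A 0 = wp A 0 := by
  constructor
  · intro h
    refine LinearMap.ext fun u => ?_
    exact congrArg Subtype.val (LinearMap.congr_fun h ⟨wp A 0 u, LinearMap.mem_range_self _ u⟩)
  · intro h
    refine LinearMap.ext fun v => Subtype.ext ?_
    obtain ⟨u, hu⟩ := v.2
    show ρ (g : G) (v : V) = (v : V)
    rw [← hu, ← Module.End.mul_apply, h]

variable [FiniteDimensional ℂ V]

theorem trace_fixRep (A : AddChar α (Module.End ℂ V)) (g : wstab ρ A 0) :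
    LinearMap.trace ℂ _ (fixRep ρ A g) = LinearMap.trace ℂ V (ρ (g : G) * wp A 0) := by
  have hP : wp A 0 = (LinearMap.range (wp A 0)).subtype ∘ₗ (wp A 0).rangeRestrict := rfl
  have h1 : fixRep ρ A g = (wp A 0).rangeRestrict ∘ₗ (ρ (g : G) ∘ₗ (LinearMap.range (wp A 0)).subtype) := by
    refine LinearMap.ext fun v => Subtype.ext ?_
    obtain ⟨u, hu⟩ := v.2
    show ρ (g : G) (v : V) = wp A 0 (ρ (g : G) (v : V))
    rw [← hu, ← Module.End.mul_apply, ← Module.End.mul_apply (wp A 0)]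
    congr 1
    rw [← mul_assoc, ← g.2.eq, mul_assoc, (wp_idem A 0).eq]
  rw [h1, LinearMap.trace_comp_comm']
  conv_rhs => rw [hP]
  rfl

/-- A scaled one-parameter family acts trivially on a simple weight. -/
theorem scale_fix {A : AddChar α (Module.End ℂ V)} {χ : AddChar α ℂ} (hχ : wd A χ = 1) {F : Type*} [Field F]
    (S : AddChar F G) (hS : ∀ a, S a ∈ wstab ρ A χ) {g : G} (hg : g ∈ wstab ρ A χ) {c : F} (hc1 : c ≠ 1)
    (hc : ∀ a, g * S a = S (c * a) * g) : ρ (S 1) * wp A χ = wp A χ := by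
  set a := (c - 1)⁻¹
  obtain ⟨μ, hμ⟩ := exists_scalar hχ (hS a)
  have hconj : ρ (S (c * a)) * wp A χ = μ • wp A χ := by
    calc ρ (S (c * a)) * wp A χ = ρ g * ρ (S a) * ρ g⁻¹ * wp A χ := by
          rw [← map_mul, ← map_mul, hc, mul_inv_cancel_right]
      _ = ρ g * (ρ (S a) * wp A χ) * ρ g⁻¹ := by
          rw [mul_assoc (ρ g * ρ (S a)), (commute_inv ρ hg).eq]
          simp only [mul_assoc]
      _ = μ • wp A χ := by
          rw [hμ, mul_smul_comm, smul_mul_assoc, hg.eq, mul_assoc, mul_inv_apply, mul_one]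
  have hca : c * a = 1 + a := by
    have : (c - 1) * a = 1 := mul_inv_cancel₀ (sub_ne_zero.2 hc1)
    linear_combination this
  rw [hca, AddChar.map_add_eq_mul, map_mul, mul_assoc, hμ, mul_smul_comm] at hconj
  rcases eq_or_ne μ 0 with hμ0 | hμ0
  · have : wp A χ = 0 := by
      rw [← one_mul (wp A χ), ← inv_mul_apply ρ (S a), mul_assoc, hμ, hμ0, zero_smul, mul_zero]
    rw [this, mul_zero]
  · exact smul_right_injective (Module.End ℂ V) hμ0 hconj

end Generic

section SL

variable {F : Type*} [Field F] {r : ℕ}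

/-- The translations of the last column as a family. -/
def colC (F : Type*) [Field F] (r : ℕ) : AddChar (Fin r → F) (Matrix.SpecialLinearGroup (Fin (r + 1)) F) where
  toFun := col
  map_zero_eq_one' := col_zero
  map_add_eq_mul' := col_add

@[simp] theorem colC_apply (v : Fin r → F) : colC F r v = col v := rfl

theorem single_dot_single {n : ℕ} {i j : Fin n} (h : j ≠ i) (t : F) :
    (Pi.single j (1 : F) : Fin n → F) ⬝ᵥ Pi.single i t = 0 := by
  rw [single_dotProduct, Pi.single_eq_of_ne h, mul_zero]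

/-- A root family. -/
def rootC {n : ℕ} (i j : Fin n) (h : j ≠ i) : AddChar F (Matrix.SpecialLinearGroup (Fin n) F) where
  toFun t := tv (Pi.single i t) (Pi.single j 1) (single_dot_single h t)
  map_zero_eq_one' := sl_ext (by simp)
  map_add_eq_mul' a b := by
    rw [tv_mul_tv]
    exact tv_congr _ _ (by simp [Pi.single_add]) rfl

theorem rootC_apply {n : ℕ} (i j : Fin n) (h : j ≠ i) (t : F) :
    rootC i j h t = tv (Pi.single i t) (Pi.single j 1) (single_dot_single h t) := rfl

theorem emb_rootC {i j : Fin r} (h : j ≠ i) (t : F) :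
    emb (rootC i j h t) = rootC i.castSucc j.castSucc (fun e => h (Fin.castSucc_inj.1 e)) t := by
  rw [rootC_apply, rootC_apply, emb_tv]
  exact tv_congr _ _ (ext0_single i t) (ext0_single j 1)

/-- The diagonal element. -/
def dg {n : ℕ} (d : Fin n → F) (h : ∏ i, d i = 1) : Matrix.SpecialLinearGroup (Fin n) F :=
  ⟨diagonal d, by rw [det_diagonal, h]⟩

theorem dg_mul_tv {n : ℕ} {d : Fin n → F} (h : ∏ i, d i = 1) {j : Fin n} {a b : Fin n → F}
    (ha : (Pi.single j (1 : F) : Fin n → F) ⬝ᵥ a = 0) (hb : (Pi.single j (1 : F) : Fin n → F) ⬝ᵥ b = 0)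
    (hab : ∀ i, d i * a i = d j * b i) :
    dg d h * tv a (Pi.single j 1) ha = tv b (Pi.single j 1) hb * dg d h := by
  refine mul_tv _ _ (d j) (funext fun i => ?_) ?_
  · change (diagonal d *ᵥ a) i = _
    rw [mulVec_diagonal, hab, Pi.smul_apply, smul_eq_mul]
  · change Pi.single j 1 ᵥ* diagonal d = _
    funext i
    rw [vecMul_diagonal, Pi.smul_apply, smul_eq_mul]
    by_cases hi : i = j
    · subst hi; simp
    · simp [Pi.single_eq_of_ne hi]

theorem dg_mul_rootC {n : ℕ} {d : Fin n → F} (h : ∏ i, d i = 1) {i j : Fin n} (hji : j ≠ i) (c : F)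
    (hc : d i = d j * c) (t : F) : dg d h * rootC i j hji t = rootC i j hji (c * t) * dg d h := by
  refine dg_mul_tv h (single_dot_single hji _) (single_dot_single hji _) fun k => ?_
  by_cases hk : k = i
  · subst hk; simp [hc, mul_assoc]
  · simp [Pi.single_eq_of_ne hk]

theorem dg_mul_col {d : Fin (r + 1) → F} (h : ∏ i, d i = 1) (w : (Fin r → F) → Fin r → F)
    (hw : ∀ v i, d (Fin.castSucc i) * v i = d (Fin.last r) * w v i) (v : Fin r → F) :
    dg d h * col v = col (w v) * dg d h := by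
  refine dg_mul_tv h _ _ fun k => ?_
  refine Fin.lastCases ?_ ?_ k
  · simp
  · intro i; simp [hw]

theorem emb_mul_colC (A : Matrix.SpecialLinearGroup (Fin r) F) (v : Fin r → F) :
    emb A * colC F r v = colC F r ((A : Matrix (Fin r) (Fin r) F) *ᵥ v) * emb A := emb_mul_col A v

theorem mulVec_injective_SL (A : Matrix.SpecialLinearGroup (Fin r) F) :
    Function.Injective fun v => (A : Matrix (Fin r) (Fin r) F) *ᵥ v := by
  intro v w h
  have hgg : ((A⁻¹ : Matrix.SpecialLinearGroup (Fin r) F) : Matrix (Fin r) (Fin r) F) *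
      (A : Matrix (Fin r) (Fin r) F) = 1 := congrArg Subtype.val (inv_mul_cancel A)
  have := congrArg (((A⁻¹ : Matrix.SpecialLinearGroup (Fin r) F) : Matrix (Fin r) (Fin r) F) *ᵥ ·) h
  rwa [mulVec_mulVec, mulVec_mulVec, hgg, one_mulVec, one_mulVec] at this

variable [Fintype F]

/-- The automorphism of the column given by an element of `SL`. -/
noncomputable def colAut (A : Matrix.SpecialLinearGroup (Fin r) F) : (Fin r → F) ≃+ (Fin r → F) :=
  autOf (Matrix.mulVecLin (A : Matrix (Fin r) (Fin r) F)).toAddMonoidHom (mulVec_injective_SL A)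

theorem colAut_apply (A : Matrix.SpecialLinearGroup (Fin r) F) (v : Fin r → F) :
    colAut A v = (A : Matrix (Fin r) (Fin r) F) *ᵥ v := rfl

theorem tv_mulVec {n : ℕ} {a f : Fin n → F} (h : f ⬝ᵥ a = 0) (v : Fin n → F) :
    ((tv a f h : Matrix.SpecialLinearGroup (Fin n) F) : Matrix (Fin n) (Fin n) F) *ᵥ v =
      v + (f ⬝ᵥ v) • a := by
  rw [coe_tv, add_mulVec, one_mulVec, vecMulVec_mulVec, op_smul_eq_smul]

theorem exists_dual (ψ : AddChar F ℂ) (hψ : ψ.IsPrimitive) {n : ℕ} (χ : AddChar (Fin n → F) ℂ) :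
    ∃ φ : Fin n → F, ∀ v, χ v = ψ (φ ⬝ᵥ v) := by
  classical
  let Φ : (Fin n → F) → AddChar (Fin n → F) ℂ := fun φ =>
    { toFun := fun v => ψ (φ ⬝ᵥ v)
      map_zero_eq_one' := by rw [dotProduct_zero, AddChar.map_zero_eq_one]
      map_add_eq_mul' := fun a b => by rw [dotProduct_add, AddChar.map_add_eq_mul] }
  have hinj : Function.Injective Φ := by
    intro φ φ' h
    funext i
    by_contra hne
    refine hψ (sub_ne_zero.2 hne) (AddChar.ext _ _ fun t => ?_)
    have := DFunLike.congr_fun h (Pi.single i t)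
    change ψ (φ ⬝ᵥ Pi.single i t) = ψ (φ' ⬝ᵥ Pi.single i t) at this
    rw [dotProduct_single, dotProduct_single] at this
    rw [AddChar.mulShift_apply, sub_mul, sub_eq_add_neg, AddChar.map_add_eq_mul, this,
      ← AddChar.map_add_eq_mul, add_neg_cancel, AddChar.map_zero_eq_one, AddChar.one_apply]
  have hbij : Function.Bijective Φ :=
    (Fintype.bijective_iff_injective_and_card Φ).2 ⟨hinj, by rw [AddChar.card_eq]⟩
  obtain ⟨φ, rfl⟩ := hbij.2 χ
  exact ⟨φ, fun v => rfl⟩

variable {V : Type} [AddCommGroup V] [Module ℂ V]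
variable (ρ : Representation ℂ (Matrix.SpecialLinearGroup (Fin (r + 1)) F) V)

/-- The action of the last column. -/
noncomputable abbrev colA : AddChar (Fin r → F) (Module.End ℂ V) := act ρ (colC F r)

theorem emb_mem_wstab_zero (A : Matrix.SpecialLinearGroup (Fin r) F) : emb A ∈ wstab ρ (colA ρ) 0 :=
  commute_wp ρ (colC F r) (colAut A) (emb_mul_colC A) fun x => rfl

/-- The representation of `SL_r` on the fixed space of the column. -/
noncomputable def levi : Representation ℂ (Matrix.SpecialLinearGroup (Fin r) F)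
    (LinearMap.range (wp (colA ρ) 0)) :=
  (fixRep ρ (colA ρ)).comp ((emb : Matrix.SpecialLinearGroup (Fin r) F →* _).codRestrict
    (wstab ρ (colA ρ) 0) (emb_mem_wstab_zero ρ))

theorem levi_eq_one_iff (A : Matrix.SpecialLinearGroup (Fin r) F) :
    levi ρ A = 1 ↔ ρ (emb A) * wp (colA ρ) 0 = wp (colA ρ) 0 :=
  fixRep_eq_one_iff ρ (colA ρ) ⟨emb A, emb_mem_wstab_zero ρ A⟩

theorem trace_levi [FiniteDimensional ℂ V] (A : Matrix.SpecialLinearGroup (Fin r) F) :
    LinearMap.trace ℂ _ (levi ρ A) = LinearMap.trace ℂ V (ρ (emb A) * wp (colA ρ) 0) :=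
  trace_fixRep ρ (colA ρ) ⟨emb A, emb_mem_wstab_zero ρ A⟩

omit [Fintype F] in
/-- An element of `SL_r` fixing the functional `φ`. -/
theorem tv_dot_fix {φ a f : Fin r → F} (h : f ⬝ᵥ a = 0) (hφ : φ ⬝ᵥ a = 0) (v : Fin r → F) :
    φ ⬝ᵥ ((tv a f h : Matrix.SpecialLinearGroup (Fin r) F) : Matrix (Fin r) (Fin r) F) *ᵥ v = φ ⬝ᵥ v := by
  rw [coe_tv, add_mulVec, one_mulVec, vecMulVec_mulVec, op_smul_eq_smul, dotProduct_add, dotProduct_smul, hφ,
    smul_zero, add_zero]

theorem emb_tv_mem_wstab {ψ : AddChar F ℂ} {χ : AddChar (Fin r → F) ℂ} {φ : Fin r → F}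
    (hχ : ∀ v, χ v = ψ (φ ⬝ᵥ v)) {a f : Fin r → F} (h : f ⬝ᵥ a = 0) (hφ : φ ⬝ᵥ a = 0) :
    emb (tv a f h) ∈ wstab ρ (colA ρ) χ :=
  commute_wp ρ (colC F r) (colAut (tv a f h)) (emb_mul_colC _) fun v => by
    rw [hχ, hχ, colAut_apply, tv_dot_fix h hφ]

/-- A transvection fixing a simple weight as a commutator. -/
theorem fix_comm [FiniteDimensional ℂ V] {ψ : AddChar F ℂ} {χ : AddChar (Fin r → F) ℂ} {φ : Fin r → F}
    (hχ : ∀ v, χ v = ψ (φ ⬝ᵥ v)) (hwd : wd (colA ρ) χ = 1) {a f : Fin r → F} (hfa : f ⬝ᵥ a = 0)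
    {b g : Fin r → F} (hga : g ⬝ᵥ a = 0) (hfb : f ⬝ᵥ b = 0) (hgb : g ⬝ᵥ b = 1) (hφa : φ ⬝ᵥ a = 0)
    (hφb : φ ⬝ᵥ b = 0) : ρ (emb (tv a f hfa)) * wp (colA ρ) χ = wp (colA ρ) χ := by
  have h1 := emb_tv_mem_wstab ρ hχ hga hφa
  have h2 := emb_tv_mem_wstab ρ hχ hfb hφb
  rw [← tv_commutator hga hfb hfa hgb, map_mul, map_mul, map_mul, map_inv, map_inv, map_mul, map_mul, map_mul]
  exact comm_mul_wp hwd h1 (commute_inv ρ h1) h2 (commute_inv ρ h2) (mul_inv_apply ρ _) (mul_inv_apply ρ _)

theorem exists_pow_ne_one {m : ℕ} (hm : ¬ (Fintype.card F - 1) ∣ m) : ∃ t : Fˣ, t ^ m ≠ 1 := by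
  by_contra h
  push Not at h
  exact hm ((FiniteField.forall_pow_eq_one_iff F m).1 h)

/-- Which `(r, q)` give commutator or torus arguments for every weight. -/
def Good (r q : ℕ) : Prop := (r = 2 ∧ q ≠ 2 ∧ q ≠ 4) ∨ (r = 3 ∧ 4 ≤ q) ∨ 4 ≤ r

theorem dual_zero {ψ : AddChar F ℂ} (hψ : ψ.IsPrimitive) {χ : AddChar (Fin r → F) ℂ} {φ : Fin r → F}
    (hχ : ∀ v, χ v = ψ (φ ⬝ᵥ v)) {i0 i1 : Fin r} (h10 : i1 ≠ i0)
    (hfix : ∀ v, χ (colAut (rootC i0 i1 h10 (1 : F)) v) = χ v) : φ i0 = 0 := by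
  by_contra hne
  refine hψ hne (AddChar.ext _ _ fun t => ?_)
  have := hfix (Pi.single i1 t)
  rw [hχ, hχ, colAut_apply, rootC_apply, tv_mulVec, dotProduct_add, AddChar.map_add_eq_mul] at this
  have hu : ψ (φ ⬝ᵥ Pi.single i1 t) ≠ 0 := fun h0' => by
    have hone : ψ (φ ⬝ᵥ Pi.single i1 t) * ψ (-(φ ⬝ᵥ Pi.single i1 t)) = 1 := by
      rw [← AddChar.map_add_eq_mul, add_neg_cancel, AddChar.map_zero_eq_one]
    rw [h0', zero_mul] at hone
    exact zero_ne_one hone
  have := (mul_eq_left₀ hu).1 this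
  rw [AddChar.mulShift_apply, AddChar.one_apply]
  simpa [single_dotProduct, dotProduct_single, dotProduct_smul, mul_comm] using this

/-- The root element fixes a simple weight killing two coordinates. -/
theorem fix_rootC [FiniteDimensional ℂ V] {ψ : AddChar F ℂ} {χ : AddChar (Fin r → F) ℂ} {φ : Fin r → F}
    (hχ : ∀ v, χ v = ψ (φ ⬝ᵥ v)) (hwd : wd (colA ρ) χ = 1) {i j k : Fin r} (hji : j ≠ i) (hki : k ≠ i)
    (hkj : k ≠ j) (hi : φ i = 0) (hk : φ k = 0) :
    ρ (emb (rootC i j hji (1 : F))) * wp (colA ρ) χ = wp (colA ρ) χ := by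
  refine fix_comm ρ hχ hwd (a := Pi.single i 1) (f := Pi.single j 1) (single_dot_single hji 1)
    (b := Pi.single k 1) (g := Pi.single k 1) (single_dot_single hki 1) (single_dot_single hkj.symm 1)
    ?_ (by rw [dotProduct_single, hi, zero_mul]) (by rw [dotProduct_single, hk, zero_mul])
  rw [single_dotProduct, Pi.single_eq_same, mul_one]

theorem fix_root [FiniteDimensional ℂ V] (hgood : Good r (Fintype.card F)) {i0 i1 : Fin r}
    (h0 : (i0 : ℕ) = 0) (h1 : (i1 : ℕ) = 1) (h10 : i1 ≠ i0) {χ : AddChar (Fin r → F) ℂ}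
    (hwd : wd (colA ρ) χ = 1) (hfix : ∀ v, χ (colAut (rootC i0 i1 h10 (1 : F)) v) = χ v) :
    ρ (emb (rootC i0 i1 h10 (1 : F))) * wp (colA ρ) χ = wp (colA ρ) χ := by
  classical
  set ψ := AddChar.FiniteField.primitiveChar_to_Complex F
  have hψ : ψ.IsPrimitive := AddChar.FiniteField.primitiveChar_to_Complex_isPrimitive F
  obtain ⟨φ, hχ⟩ := exists_dual ψ hψ χ
  have hφ0 : φ i0 = 0 := dual_zero hψ hχ h10 hfix
  have hS : ∀ a, emb (rootC i0 i1 h10 a) ∈ wstab ρ (colA ρ) χ := fun a =>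
    emb_tv_mem_wstab ρ hχ (single_dot_single h10 a) (by rw [dotProduct_single, hφ0, zero_mul])
  let S : AddChar F (Matrix.SpecialLinearGroup (Fin (r + 1)) F) :=
    (emb : Matrix.SpecialLinearGroup (Fin r) F →* _).compAddChar (rootC i0 i1 h10)
  have hcj : ∀ {j : Fin r}, j ≠ i0 → j ≠ i1 → φ j = 0 →
      ρ (emb (rootC i0 i1 h10 (1 : F))) * wp (colA ρ) χ = wp (colA ρ) χ := fun {j} hj0 hj1 hφj =>
    fix_rootC ρ hχ hwd h10 hj0 hj1 hφ0 hφj
  rcases hgood with ⟨hr, hq2, hq4⟩ | ⟨hr, hq⟩ | hr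
  · subst hr
    obtain rfl : i0 = 0 := Fin.ext h0
    obtain rfl : i1 = 1 := Fin.ext h1
    have hm : ¬ (Fintype.card F - 1) ∣ 3 := fun h => by
      have := Fintype.one_lt_card (α := F)
      rcases (Nat.dvd_prime Nat.prime_three).1 h with h | h <;> omega
    obtain ⟨t, ht⟩ := exists_pow_ne_one hm
    have ht0 : (t : F) ≠ 0 := t.ne_zero
    let d : Fin 3 → F := ![((t : F) ^ 2)⁻¹, t, t]
    have hd : ∏ i, d i = 1 := by simp [d, Fin.prod_univ_three]; field_simp
    let w : (Fin 2 → F) →+ (Fin 2 → F) :=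
      { toFun := fun v => ![((t : F) ^ 3)⁻¹ * v 0, v 1]
        map_zero' := by funext i; fin_cases i <;> simp
        map_add' := fun a b => by funext i; fin_cases i <;> simp [mul_add] }
    have hw : Function.Injective w := fun a b h => by
      funext i
      fin_cases i
      · simpa [w, ht0] using congrFun h 0
      · simpa [w] using congrFun h 1
    have hg : dg d hd ∈ wstab ρ (colA ρ) χ := by
      refine commute_wp ρ (colC F 2) (autOf w hw) (dg_mul_col hd _ fun v i => ?_) fun v => ?_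
      · fin_cases i <;> simp [d, w]
        field_simp
      · rw [hχ, hχ, autOf_apply]
        simp [w, dotProduct, Fin.sum_univ_two, hφ0]
    refine scale_fix ρ hwd S hS hg (c := ((t : F) ^ 3)⁻¹) ?_ fun a => ?_
    · rw [Ne, inv_eq_one]
      exact fun h => ht (Units.ext (by simpa using h))
    · change dg d hd * emb (rootC 0 1 h10 a) = emb (rootC 0 1 h10 _) * dg d hd
      rw [emb_rootC, emb_rootC]
      refine dg_mul_rootC hd _ _ ?_ a
      simp [d]
      field_simp
  · subst hr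
    obtain rfl : i0 = 0 := Fin.ext h0
    obtain rfl : i1 = 1 := Fin.ext h1
    by_cases hφ2 : φ 2 = 0
    · exact hcj (j := 2) (by decide) (by decide) hφ2
    obtain ⟨t, ht⟩ := exists_pow_ne_one (F := F) (m := 2) fun h => by
      have := Nat.le_of_dvd two_pos h
      omega
    have ht0 : (t : F) ≠ 0 := t.ne_zero
    let d : Fin 4 → F := ![(t : F), (t : F)⁻¹, 1, 1]
    have hd : ∏ i, d i = 1 := by simp [d, Fin.prod_univ_four, ht0]
    set x := φ 1 * (1 - (t : F)⁻¹) / φ 2 with hx
    let U : Matrix.SpecialLinearGroup (Fin 3) F := rootC 2 1 (by decide) x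
    let w : (Fin 3 → F) →+ (Fin 3 → F) :=
      { toFun := fun v => ![(t : F) * v 0, (t : F)⁻¹ * v 1, v 2 + x * v 1]
        map_zero' := by funext i; fin_cases i <;> simp
        map_add' := fun a b => by funext i; fin_cases i <;> simp [mul_add]; ring }
    have hw : Function.Injective w := fun a b h => by
      have e1 : a 1 = b 1 := by simpa [w, ht0] using congrFun h 1
      funext i
      fin_cases i
      · simpa [w, ht0] using congrFun h 0
      · exact e1
      · simpa [w, e1] using congrFun h 2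
    have hU : ∀ v, (U : Matrix (Fin 3) (Fin 3) F) *ᵥ v = ![v 0, v 1, v 2 + x * v 1] := fun v => by
      show ((rootC (2 : Fin 3) 1 (by decide) x : Matrix.SpecialLinearGroup (Fin 3) F) :
        Matrix (Fin 3) (Fin 3) F) *ᵥ v = _
      rw [rootC_apply, tv_mulVec]
      funext i
      fin_cases i <;> simp [single_dotProduct, mul_comm]
    have hg : dg d hd * emb U ∈ wstab ρ (colA ρ) χ := by
      refine commute_wp ρ (colC F 3) (autOf w hw) (fun v => ?_) fun v => ?_
      · rw [mul_assoc, emb_mul_colC, ← mul_assoc, ← mul_assoc]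
        congr 1
        refine (dg_mul_col hd (fun u => ![(t : F) * u 0, (t : F)⁻¹ * u 1, u 2]) (fun u i => ?_) _).trans ?_
        · fin_cases i <;> simp [d]
        · congr 2
          rw [autOf_apply, hU]
          simp [w]
      · rw [hχ, hχ, autOf_apply]
        congr 1
        simp [w, dotProduct, Fin.sum_univ_three, hφ0, hx]
        field_simp
        ring
    refine scale_fix ρ hwd S hS hg (c := (t : F) ^ 2) ?_ fun a => ?_
    · exact fun h => ht (Units.ext (by simpa using h))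
    · change dg d hd * emb U * emb (rootC 0 1 h10 a) = emb (rootC 0 1 h10 _) * (dg d hd * emb U)
      have hcomm : emb U * emb (rootC (0 : Fin 3) 1 h10 a) = emb (rootC 0 1 h10 a) * emb U := by
        rw [← map_mul, ← map_mul]
        congr 1
        exact mul_tv (single_dot_single h10 a) (single_dot_single h10 a) 1 (by rw [hU, one_smul]; funext i; fin_cases i <;> simp)
          (by
            rw [one_smul]
            show Pi.single (1 : Fin 3) (1 : F) ᵥ* (1 + vecMulVec (Pi.single 2 x) (Pi.single 1 1)) = _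
            rw [vecMul_add, vecMul_one, vecMul_vecMulVec, single_dot_single (by decide) x, zero_smul, add_zero])
      rw [mul_assoc, hcomm, ← mul_assoc, ← mul_assoc]
      congr 1
      rw [emb_rootC, emb_rootC]
      refine dg_mul_rootC hd _ _ ?_ a
      simp [d]
      field_simp
  · by_cases hex : ∃ j, j ≠ i0 ∧ j ≠ i1 ∧ φ j = 0
    · obtain ⟨j, hj0, hj1, hj⟩ := hex
      exact hcj hj0 hj1 hj
    push Not at hex
    let i2 : Fin r := ⟨2, by omega⟩
    let i3 : Fin r := ⟨3, by omega⟩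
    have e20 : i2 ≠ i0 := fun h => by simpa [i2, h0] using congrArg Fin.val h
    have e21 : i2 ≠ i1 := fun h => by simpa [i2, h1] using congrArg Fin.val h
    have e30 : i3 ≠ i0 := fun h => by simpa [i3, h0] using congrArg Fin.val h
    have e31 : i3 ≠ i1 := fun h => by simpa [i3, h1] using congrArg Fin.val h
    have e23 : i2 ≠ i3 := fun h => by simpa [i2, i3] using congrArg Fin.val h
    have hφ3 := hex i3 e30 e31
    refine fix_comm ρ hχ hwd (a := Pi.single i0 1) (f := Pi.single i1 1) (single_dot_single h10 1)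
      (b := Pi.single i2 (φ i3) - Pi.single i3 (φ i2)) (g := Pi.single i2 (φ i3)⁻¹) ?_ ?_ ?_
      (by rw [dotProduct_single, hφ0, zero_mul]) ?_
    · rw [single_dotProduct, Pi.single_eq_of_ne e20, mul_zero]
    · rw [dotProduct_sub, single_dot_single e21.symm, single_dot_single e31.symm, sub_zero]
    · simp [Pi.single_eq_of_ne e23, Pi.single_eq_of_ne e23.symm, hφ3]
    · rw [dotProduct_sub, dotProduct_single, dotProduct_single, mul_comm, sub_self]

end SL

end CfsgLib.FgsC.MinDeg
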