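import Mathlib
import Cfsg.Agent.Lib.Chars.Integral
import Cfsg.Agent.Lib.Chars.Irr
import Cfsg.Agent.Lib.FgsC.MinDeg.Core
import Cfsg.Agent.Lib.FgsC.MinDeg.Arith

/-!
The basic facts about a non-trivial representation of `SL_(r+1)`: the weights of the last column, the
non-triviality of the Levi representation, the bound in dimension three, and the divisibility.
-/

set_option autoImplicit false

namespace CfsgLib.FgsC.MinDeg

open Matrix Module

variable {F : Type*} [Field F] [Fintype F] {r : ℕ} {V : Type} [AddCommGroup V] [Module ℂ V]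

omit [Fintype F] in
theorem single_ne {n : ℕ} (i : Fin n) {t : F} (ht : t ≠ 0) : (Pi.single i t : Fin n → F) ≠ 0 :=
  fun h => ht (by simpa using congrFun h i)

/-- In degree at least three a non-trivial representation is non-trivial on every transvection. -/
theorem tv_ne_one {n : ℕ} (hn : 3 ≤ n) {W : Type} [AddCommGroup W] [Module ℂ W]
    (ρ : Representation ℂ (Matrix.SpecialLinearGroup (Fin n) F) W) (hnt : ∃ g, ρ g ≠ 1)
    {a f : Fin n → F} (h : f ⬝ᵥ a = 0) (ha : a ≠ 0) (hf : f ≠ 0) : ρ (tv a f h) ≠ 1 := by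
  intro h1
  obtain ⟨g, hg⟩ := hnt
  refine hg ?_
  let K : Subgroup (Matrix.SpecialLinearGroup (Fin n) F) :=
    { carrier := {g | ρ g = 1}
      one_mem' := map_one ρ
      mul_mem' := fun {x y} (hx : ρ x = 1) (hy : ρ y = 1) => show ρ (x * y) = 1 by rw [map_mul, hx, hy, one_mul]
      inv_mem' := fun {x} (hx : ρ x = 1) => show ρ x⁻¹ = 1 by
        have h2 := inv_mul_apply ρ x
        rwa [hx, mul_one] at h2 }
  have htop : K = ⊤ := by
    refine CfsgLib.Classical.eq_top_of_transvection_mem K fun i j hij c => ?_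
    by_cases hc : c = 0
    · have : (Matrix.SpecialLinearGroup.transvection hij c : Matrix.SpecialLinearGroup (Fin n) F) = 1 :=
        sl_ext (by simp [hc, Matrix.SpecialLinearGroup.transvection_coe])
      rw [this]
      exact one_mem K
    have he : (Matrix.SpecialLinearGroup.transvection hij c : Matrix.SpecialLinearGroup (Fin n) F) =
        tv (Pi.single i c) (Pi.single j 1) (single_dot_single hij.symm c) :=
      sl_ext (by
        simp only [Matrix.SpecialLinearGroup.transvection_coe, coe_tv, add_right_inj]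
        ext k l
        by_cases hk : k = i <;> by_cases hl : l = j <;>
          simp [vecMulVec_apply, hk, hl, Ne.symm])
    obtain ⟨y, hy⟩ := isConj_iff.1
      (isConj_tv hn h ha hf (single_dot_single hij.symm c) (single_ne i hc) (single_ne j one_ne_zero))
    rw [he, ← hy]
    show ρ (y * tv a f h * y⁻¹) = 1
    rw [map_mul, map_mul, h1, mul_one]
    exact mul_inv_apply ρ y
  exact (htop ▸ Subgroup.mem_top g : g ∈ K)

/-- An irreducible representation of degree at least two is non-trivial. -/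
theorem nontrivial_of_two_le {G : Type*} [Group G] {W : Type*} [AddCommGroup W] [Module ℂ W]
    [FiniteDimensional ℂ W] (ρ : Representation ℂ G W) (hρ : ρ.IsIrreducible) (h2 : 2 ≤ finrank ℂ W) :
    ∃ g, ρ g ≠ 1 := by
  by_contra h
  push Not at h
  haveI : Nontrivial W := Module.nontrivial_of_finrank_pos (R := ℂ) (by omega)
  obtain ⟨w, hw⟩ := exists_ne (0 : W)
  have h1 := (CfsgLib.Chars.isIrreducible_iff ρ).1 hρ
  rcases h1.2 (Submodule.span ℂ {w}) (fun g v hv => by simpa [h g] using hv) with hb | ht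
  · exact hw (by simpa using hb)
  · have h3 := finrank_span_singleton (K := ℂ) hw
    rw [ht, finrank_top] at h3
    omega

theorem exists_ne_zero_char (hr : 1 ≤ r) : ∃ χ : AddChar (Fin r → F) ℂ, χ ≠ 0 := by
  obtain ⟨χ, hχ⟩ := (AddChar.exists_apply_ne_zero (a := (Pi.single ⟨0, hr⟩ (1 : F) : Fin r → F))).2
    (single_ne _ one_ne_zero)
  exact ⟨χ, fun h => hχ (by rw [h, AddChar.zero_apply])⟩

theorem card_col : Fintype.card (Fin r → F) = Fintype.card F ^ r := by
  rw [Fintype.card_fun, Fintype.card_fin]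

variable (ρ : Representation ℂ (Matrix.SpecialLinearGroup (Fin (r + 1)) F) V)

omit [Fintype F] in
theorem ext0_ne {v : Fin r → F} (hv : v ≠ 0) : ext0 v ≠ 0 := fun h => hv (ext0_eq_zero h)

theorem trace_col (hr : 2 ≤ r) {a f : Fin (r + 1) → F} (h : f ⬝ᵥ a = 0) (ha : a ≠ 0) (hf : f ≠ 0)
    {v : Fin r → F} (hv : v ≠ 0) :
    LinearMap.trace ℂ V (colA ρ v) = LinearMap.trace ℂ V (ρ (tv a f h)) :=
  trace_isConj ρ (isConj_tv (by omega) (lastE_dot v) (ext0_ne hv) lastE_ne h ha hf)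

theorem colA_ne (hr : 2 ≤ r) (hnt : ∃ g, ρ g ≠ 1) : ∃ v, colA ρ v ≠ 1 :=
  ⟨Pi.single ⟨0, by omega⟩ 1, tv_ne_one (by omega) ρ hnt (lastE_dot _) (ext0_ne (single_ne _ one_ne_zero))
    lastE_ne⟩

theorem trace_col_root (hr : 2 ≤ r) {i j : Fin r} (hji : j ≠ i) {v : Fin r → F} (hv : v ≠ 0) :
    LinearMap.trace ℂ V (colA ρ v) = LinearMap.trace ℂ V (ρ (emb (rootC i j hji (1 : F)))) := by
  rw [emb_rootC, rootC_apply]
  exact trace_col ρ hr _ (single_ne _ one_ne_zero) (single_ne _ one_ne_zero) hv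

variable [FiniteDimensional ℂ V]

theorem finrank_col (hr : 2 ≤ r) {χ : AddChar (Fin r → F) ℂ} (hχ : χ ≠ 0) :
    finrank ℂ V = wd (colA ρ) 0 + (Fintype.card F ^ r - 1) * wd (colA ρ) χ := by
  rw [← card_col (F := F) (r := r)]
  exact finrank_eq_wd (τ := LinearMap.trace ℂ V (ρ (col (Pi.single ⟨0, by omega⟩ 1))))
    (fun v hv => trace_col ρ hr (lastE_dot _) (ext0_ne (single_ne _ one_ne_zero)) lastE_ne hv) hχ

theorem wd_col_pos (hr : 2 ≤ r) (hnt : ∃ g, ρ g ≠ 1) {χ : AddChar (Fin r → F) ℂ} (hχ : χ ≠ 0) :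
    0 < wd (colA ρ) χ :=
  wd_pos (fun v hv => trace_col ρ hr (lastE_dot _) (ext0_ne (single_ne ⟨0, by omega⟩ one_ne_zero)) lastE_ne hv)
    (colA_ne ρ hr hnt) hχ

theorem wd_col_eq (hr : 2 ≤ r) {χ χ' : AddChar (Fin r → F) ℂ} (hχ : χ ≠ 0) (hχ' : χ' ≠ 0) :
    wd (colA ρ) χ = wd (colA ρ) χ' :=
  wd_eq (fun v hv => trace_col ρ hr (lastE_dot _) (ext0_ne (single_ne ⟨0, by omega⟩ one_ne_zero)) lastE_ne hv)
    hχ hχ'

theorem le_finrank_col (hr : 2 ≤ r) (hnt : ∃ g, ρ g ≠ 1) : Fintype.card F ^ r - 1 ≤ finrank ℂ V := by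
  rw [← card_col (F := F) (r := r)]
  exact card_sub_one_le
    (fun v hv => trace_col ρ hr (lastE_dot _) (ext0_ne (single_ne ⟨0, by omega⟩ one_ne_zero)) lastE_ne hv)
    (colA_ne ρ hr hnt)

/-- A root element fixing each simple weight it stabilises gives a non-trivial Levi representation. -/
theorem levi_root_ne (hr : 2 ≤ r) (hone : ∀ χ : AddChar (Fin r → F) ℂ, χ ≠ 0 → wd (colA ρ) χ = 1)
    {i0 i1 : Fin r} (h10 : i1 ≠ i0)
    (hfix : ∀ χ : AddChar (Fin r → F) ℂ, χ ≠ 0 → (∀ v, χ (colAut (rootC i0 i1 h10 (1 : F)) v) = χ v) →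
      ρ (emb (rootC i0 i1 h10 (1 : F))) * wp (colA ρ) χ = wp (colA ρ) χ) :
    levi ρ (rootC i0 i1 h10 (1 : F)) ≠ 1 := by
  rw [Ne, levi_eq_one_iff]
  obtain ⟨χ₁, hχ₁⟩ := exists_ne_zero_char (F := F) (r := r) (by omega)
  exact mul_wp_zero_ne (fun v hv => trace_col_root ρ hr h10 hv) hone (colAut (rootC i0 i1 h10 (1 : F)))
    (act_conj ρ (colC F r) _ (emb_mul_colC _)) rfl hfix hχ₁

theorem levi_root_ne_of_good (hr : 2 ≤ r) (hgood : Good r (Fintype.card F))
    (hone : ∀ χ : AddChar (Fin r → F) ℂ, χ ≠ 0 → wd (colA ρ) χ = 1)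
    {i0 i1 : Fin r} (h0 : (i0 : ℕ) = 0) (h1 : (i1 : ℕ) = 1) (h10 : i1 ≠ i0) :
    levi ρ (rootC i0 i1 h10 (1 : F)) ≠ 1 :=
  levi_root_ne ρ hr hone h10 fun χ hχ hf => fix_root ρ hgood h0 h1 h10 (hone χ hχ) hf

omit [FiniteDimensional ℂ V] in
theorem dg_mem_wstab_zero {d : Fin (r + 1) → F} (hd : ∏ i, d i = 1) :
    dg d hd ∈ wstab ρ (colA ρ) 0 := by
  have hne : ∀ i, d i ≠ 0 := fun i h => one_ne_zero (α := F)
    (by rw [← hd]; exact Finset.prod_eq_zero (Finset.mem_univ i) h)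
  let f : (Fin r → F) → (Fin r → F) := fun v i => d i.castSucc * v i / d (Fin.last r)
  refine commute_wp_zero ρ (colC F r) f (Finite.injective_iff_bijective.1 fun v w h => ?_) fun v => ?_
  · funext i
    have := congrFun h i
    simp only [f, div_left_inj' (hne _)] at this
    exact mul_left_cancel₀ (hne _) this
  · exact dg_mul_col hd f (fun v i => by simp only [f]; rw [mul_div_cancel₀ _ (hne _)]) v

theorem trace_levi_conj {g : Matrix.SpecialLinearGroup (Fin (r + 1)) F} (hg : g ∈ wstab ρ (colA ρ) 0)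
    {A B : Matrix.SpecialLinearGroup (Fin r) F} (h : g * emb A = emb B * g) :
    LinearMap.trace ℂ _ (levi ρ A) = LinearMap.trace ℂ _ (levi ρ B) :=
  trace_conj (fixRep ρ (colA ρ)) (g := ⟨g, hg⟩) (x := ⟨emb A, emb_mem_wstab_zero ρ A⟩)
    (y := ⟨emb B, emb_mem_wstab_zero ρ B⟩) (Subtype.ext h)

/-- In `SL_3` a non-trivial Levi representation has degree at least `q - 1`. -/
theorem three_bound (σ : Representation ℂ (Matrix.SpecialLinearGroup (Fin 3) F) V)
    (h : levi (r := 2) σ (rootC 0 1 (by decide) (1 : F)) ≠ 1) :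
    Fintype.card F - 1 ≤ wd (colA (r := 2) σ) 0 := by
  refine card_sub_one_le (A := act (levi (r := 2) σ) (rootC 0 1 (by decide)))
    (τ := LinearMap.trace ℂ _ (levi (r := 2) σ (rootC 0 1 (by decide) (1 : F)))) (fun t ht => ?_) ⟨1, h⟩
  have hd : ∏ i, (![t, 1, t⁻¹] : Fin 3 → F) i = 1 := by
    simp [Fin.prod_univ_three, ht]
  refine (trace_levi_conj (r := 2) σ (dg_mem_wstab_zero (r := 2) σ hd) ?_).symm
  change _ = emb (rootC 0 1 (by decide : (1 : Fin 2) ≠ 0) t) * _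
  rw [emb_rootC, emb_rootC]
  have := dg_mul_rootC hd (i := ((0 : Fin 2).castSucc)) (j := ((1 : Fin 2).castSucc))
    (by decide) t (by simp) (1 : F)
  rwa [mul_one] at this

/-- The divisibility from the class of transvections. -/
theorem degree_dvd (hr : 2 ≤ r) [ρ.IsIrreducible]
    (hone : ∀ χ : AddChar (Fin r → F) ℂ, χ ≠ 0 → wd (colA ρ) χ = 1) :
    ∃ X : ℕ, X * (Fintype.card F - 1) = (Fintype.card F ^ (r + 1) - 1) * (Fintype.card F ^ r - 1) ∧
      finrank ℂ V ∣ X * Fintype.card F ^ r := by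
  obtain ⟨χ₁, hχ₁⟩ := exists_ne_zero_char (F := F) (r := r) (by omega)
  have hv : (Pi.single ⟨0, by omega⟩ 1 : Fin r → F) ≠ 0 := single_ne _ one_ne_zero
  have hX := card_class_mul (n := r + 1) (by omega) (lastE_dot _) (ext0_ne hv) lastE_ne
  rw [Nat.add_sub_cancel] at hX
  refine ⟨_, hX, ?_⟩
  have hk := card_wd_nonzero (A := colA ρ)
    (fun v hv' => trace_col ρ hr (lastE_dot _) (ext0_ne hv) lastE_ne hv') hχ₁
  rw [hone χ₁ hχ₁, Nat.cast_one, mul_one, card_col, Nat.cast_pow] at hk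
  have hint := CfsgLib.Chars.isIntegral_centralChar ρ
    (tv (ext0 (Pi.single ⟨0, by omega⟩ 1 : Fin r → F)) (lastE F r) (lastE_dot _))
  set X := Nat.card {x // IsConj (tv (ext0 (Pi.single ⟨0, by omega⟩ 1 : Fin r → F)) (lastE F r) (lastE_dot _)) x}
  have hpos : finrank ℂ V ≠ 0 := (CfsgLib.Chars.finrank_pos_of_isIrreducible ρ).ne'
  refine CfsgLib.Chars.dvd_of_isIntegral_div hpos ?_
  have hX' : IsIntegral ℤ (X : ℂ) := by simpa using (isIntegral_algebraMap (x := (X : ℤ)) : IsIntegral ℤ _)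
  have hk0 : (finrank ℂ V : ℂ) ≠ 0 := Nat.cast_ne_zero.2 hpos
  have e : ((X * Fintype.card F ^ r : ℕ) : ℂ) / (finrank ℂ V : ℂ) = (X : ℂ) - (X : ℂ) *
      ρ.character (tv (ext0 (Pi.single ⟨0, by omega⟩ 1 : Fin r → F)) (lastE F r) (lastE_dot _)) /
        (finrank ℂ V : ℂ) := by
    simp only [Representation.character, Nat.cast_mul, Nat.cast_pow]
    rw [hk]
    field_simp
  rw [e]
  exact hX'.sub hint

end CfsgLib.FgsC.MinDeg
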