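import Mathlib
import Cfsg.Agent.Lib.FgsC.MinDeg.Lower

/-!
The case `(n, q) = (5, 2)`: degree 24 would need a two dimensional constituent of `SL_3(2)`.
-/

set_option autoImplicit false

namespace CfsgLib.FgsC.MinDeg

open Matrix Module

variable {F : Type*} [Field F] [Fintype F]

theorem two_elems (hq : Fintype.card F = 2) (x : F) : x = 0 ∨ x = 1 := by
  have h := FiniteField.pow_card x
  rw [hq] at h
  rcases mul_eq_zero.1 (show x * (x - 1) = 0 by linear_combination h) with h0 | h1
  · exact Or.inl h0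
  · exact Or.inr (sub_eq_zero.1 h1)

theorem one_add_one_two (hq : Fintype.card F = 2) : (1 : F) + 1 = 0 := by
  rcases two_elems hq ((1 : F) + 1) with h | h
  · exact h
  · exact absurd (show (1 : F) = 0 by linear_combination h) one_ne_zero

theorem add_self_two (hq : Fintype.card F = 2) {n : ℕ} (a : Fin n → F) : a + a = 0 := by
  funext i
  rw [Pi.add_apply, Pi.zero_apply]
  linear_combination a i * one_add_one_two hq

theorem rootC_sq (hq : Fintype.card F = 2) {n : ℕ} {i j : Fin n} (h : j ≠ i) :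
    rootC i j h (1 : F) * rootC i j h (1 : F) = 1 := by
  rw [← AddChar.map_add_eq_mul, one_add_one_two hq, AddChar.map_zero_eq_one]

omit [Fintype F] in
theorem col_single {r : ℕ} (i : Fin r) (t : F) :
    col (Pi.single i t) = rootC i.castSucc (Fin.last r) (Fin.castSucc_lt_last i).ne' t :=
  tv_congr _ (single_dot_single (Fin.castSucc_lt_last i).ne' t) (ext0_single i t) rfl

omit [Fintype F] in
theorem tv_vecMul {n : ℕ} {a f : Fin n → F} (h : f ⬝ᵥ a = 0) (g : Fin n → F) :
    g ᵥ* ((tv a f h : Matrix.SpecialLinearGroup (Fin n) F) : Matrix (Fin n) (Fin n) F) =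
      g + (g ⬝ᵥ a) • f := by
  rw [coe_tv, vecMul_add, vecMul_one, vecMul_vecMulVec]

/-- The indicator of `χ a = 1`. -/
noncomputable def ind {n : ℕ} (χ : AddChar (Fin n → F) ℂ) (a : Fin n → F) : ℂ :=
  letI := Classical.propDecidable (χ a = 1)
  if χ a = 1 then 1 else 0

theorem ind_eq (hq : Fintype.card F = 2) {n : ℕ} (χ : AddChar (Fin n → F) ℂ) (a : Fin n → F) :
    ind χ a = (1 + χ a) / 2 := by
  have h : χ a * χ a = 1 := by
    rw [← AddChar.map_add_eq_mul, add_self_two hq, AddChar.map_zero_eq_one]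
  rcases mul_self_eq_one_iff.1 h with h1 | h1
  · norm_num [ind, h1]
  · norm_num [ind, h1]

theorem sum_char {n : ℕ} [DecidableEq (Fin n → F)] (x : Fin n → F) :
    ∑ χ : AddChar (Fin n → F) ℂ, χ x = if x = 0 then ((Fintype.card F ^ n : ℕ) : ℂ) else 0 := by
  rw [AddChar.sum_apply_eq_ite, card_col]

theorem sum_ind_mul (hq : Fintype.card F = 2) {n : ℕ} {a : Fin n → F} (ha : a ≠ 0) (b : Fin n → F) :
    ∑ χ : AddChar (Fin n → F) ℂ, ind χ a * χ b =
      (∑ χ : AddChar (Fin n → F) ℂ, χ b + ∑ χ : AddChar (Fin n → F) ℂ, χ (a + b)) / 2 := by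
  rw [← Finset.sum_add_distrib, Finset.sum_div]
  refine Finset.sum_congr rfl fun χ _ => ?_
  rw [ind_eq hq, AddChar.map_add_eq_mul]
  ring

theorem sum_ind (hq : Fintype.card F = 2) {n : ℕ} {a : Fin n → F} (ha : a ≠ 0) :
    ∑ χ : AddChar (Fin n → F) ℂ, ind χ a = (2 : ℂ) ^ n / 2 := by
  classical
  have h := sum_ind_mul hq ha 0
  simp only [AddChar.map_zero_eq_one, mul_one, add_zero] at h
  rw [h, sum_char a, if_neg ha, add_zero, Finset.sum_const, Finset.card_univ, AddChar.card_eq, card_col, hq,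
    nsmul_eq_mul, mul_one]
  push_cast
  ring

theorem sum_ind_ind (hq : Fintype.card F = 2) {n : ℕ} {a b : Fin n → F} (ha : a ≠ 0) (hb : b ≠ 0)
    (hab : a + b ≠ 0) : ∑ χ : AddChar (Fin n → F) ℂ, ind χ a * ind χ b = (2 : ℂ) ^ n / 4 := by
  classical
  have e : ∀ χ : AddChar (Fin n → F) ℂ, ind χ a * ind χ b = (ind χ a + ind χ a * χ b) / 2 := fun χ => by
    rw [ind_eq hq χ b]
    ring
  rw [Finset.sum_congr rfl fun χ _ => e χ, ← Finset.sum_div, Finset.sum_add_distrib, sum_ind hq ha,
    sum_ind_mul hq ha b, sum_char b, sum_char (a + b), if_neg hb, if_neg hab]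
  ring

theorem eq_one_of_add (hq : Fintype.card F = 2) {n : ℕ} (χ : AddChar (Fin n → F) ℂ) {x a : Fin n → F}
    (h : χ (x + a) = χ x) : χ a = 1 := by
  rw [AddChar.map_add_eq_mul] at h
  have hu : χ x * χ x = 1 := by
    rw [← AddChar.map_add_eq_mul, add_self_two hq, AddChar.map_zero_eq_one]
  exact (mul_eq_left₀ (left_ne_zero_of_mul_eq_one hu)).1 h

theorem fixed_iff (hq : Fintype.card F = 2) {n : ℕ} (χ : AddChar (Fin n → F) ℂ) (a : Fin n → F) (j : Fin n) :
    (∀ v, χ (v + v j • a) = χ v) ↔ χ a = 1 := by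
  constructor
  · intro h
    have h1 := h (Pi.single j 1)
    rw [Pi.single_eq_same, one_smul, AddChar.map_add_eq_mul] at h1
    have hu : χ (Pi.single j 1) * χ (Pi.single j 1) = 1 := by
      rw [← AddChar.map_add_eq_mul, add_self_two hq, AddChar.map_zero_eq_one]
    exact (mul_eq_left₀ (left_ne_zero_of_mul_eq_one hu)).1 h1
  · intro h v
    rcases two_elems hq (v j) with hv | hv
    · rw [hv, zero_smul, add_zero]
    · rw [hv, one_smul, AddChar.map_add_eq_mul, h, mul_one]

theorem dual_eq_zero (hq : Fintype.card F = 2) {ψ : AddChar F ℂ} (hψ : ψ.IsPrimitive) {n : ℕ}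
    {χ : AddChar (Fin n → F) ℂ} {φ : Fin n → F} (hχ : ∀ v, χ v = ψ (φ ⬝ᵥ v)) {i : Fin n}
    (h : χ (Pi.single i 1) = 1) : φ i = 0 := by
  rw [hχ, dotProduct_single, mul_one] at h
  rcases two_elems hq (φ i) with h0 | h1
  · exact h0
  · exfalso
    refine hψ (one_ne_zero (α := F)) (AddChar.ext _ _ fun x => ?_)
    rw [AddChar.mulShift_apply, one_mul, AddChar.one_apply]
    rcases two_elems hq x with rfl | rfl
    · exact AddChar.map_zero_eq_one ψ
    · rwa [← h1]

variable {V : Type} [AddCommGroup V] [Module ℂ V] [FiniteDimensional ℂ V]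

theorem bound_five_two (hq : Fintype.card F = 2)
    (ρ : Representation ℂ (Matrix.SpecialLinearGroup (Fin (4 + 1)) F) V) [ρ.IsIrreducible]
    (hone : ∀ χ : AddChar (Fin 4 → F) ℂ, χ ≠ 0 → wd (colA ρ) χ = 1)
    (hroot : levi ρ (rootC (0 : Fin 4) 1 (by decide) (1 : F)) ≠ 1) :
    bnd (Fintype.card F) 5 ≤ finrank ℂ V := by
  classical
  by_contra hlt
  push Not at hlt
  obtain ⟨χ₁, hχ₁⟩ := exists_ne_zero_char (F := F) (r := 4) (by omega)
  obtain ⟨χ₂, hχ₂⟩ := exists_ne_zero_char (F := F) (r := 3) (by omega)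
  have hk := finrank_col ρ (by omega) hχ₁
  rw [hone χ₁ hχ₁, hq] at hk
  obtain ⟨X, hX, hd⟩ := degree_dvd ρ (by omega) hone
  rw [hq] at hX hd hlt
  have hnt : ∃ g, levi ρ g ≠ 1 := ⟨_, hroot⟩
  have hc := le_finrank_col (r := 3) (levi ρ) (by omega) hnt
  have hc' := finrank_col (r := 3) (levi ρ) (by omega) hχ₂
  have hm := wd_col_pos (r := 3) (levi ρ) (by omega) hnt hχ₂
  rw [hq] at hc hc'
  change _ ≤ wd (colA ρ) 0 at hc
  change wd (colA ρ) 0 = _ at hc'
  norm_num [bnd] at hlt hk hX hd hc hc'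
  have hX' : X = 465 := by omega
  subst hX'
  have hk24 : finrank ℂ V = 24 := by
    generalize finrank ℂ V = k at *
    interval_cases k <;> omega
  have hm1 : wd (colA (r := 3) (levi ρ)) χ₂ = 1 := by omega
  have hc2 : wd (colA (r := 3) (levi ρ)) 0 = 2 := by
    rw [hm1] at hc'; omega
  have hone' : ∀ χ : AddChar (Fin 3 → F) ℂ, χ ≠ 0 → wd (colA (r := 3) (levi ρ)) χ = 1 := fun χ hχ =>
    (wd_col_eq (r := 3) (levi ρ) (by omega) hχ hχ₂).trans hm1
  -- the second Levi representation fixes the root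
  let R : Matrix.SpecialLinearGroup (Fin 3) F := rootC (0 : Fin 3) 1 (by decide) 1
  have hR1 : levi (r := 3) (levi ρ) R = 1 := by
    by_contra hne
    have h3 := le_finrank_col (r := 2) (levi (r := 3) (levi ρ)) le_rfl ⟨R, hne⟩
    rw [hq] at h3
    change _ ≤ wd (colA (r := 3) (levi ρ)) 0 at h3
    norm_num at h3
    omega
  let R4 : Matrix.SpecialLinearGroup (Fin 4) F := rootC (0 : Fin 4) 1 (by decide) 1
  let E : Matrix.SpecialLinearGroup (Fin 4) F := rootC (2 : Fin 4) 3 (by decide) 1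
  let w : Fin 3 → F := Pi.single 2 1
  let u : Fin 4 → F := Pi.single 2 1
  let e0 : Fin 4 → F := Pi.single 0 1
  have hR : emb R = R4 := emb_rootC _ _
  have hE : col w = E := col_single _ _
  set ψ := AddChar.FiniteField.primitiveChar_to_Complex F
  have hψ : ψ.IsPrimitive := AddChar.FiniteField.primitiveChar_to_Complex_isPrimitive F
  have he0 : e0 ≠ 0 := single_ne _ one_ne_zero
  have hu : u ≠ 0 := single_ne _ one_ne_zero
  have he0u : e0 + u ≠ 0 := fun h => by simpa [e0, u] using congrFun h 0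
  have hR4v : ∀ v, colAut R4 v = v + v 1 • e0 := fun v => by
    rw [colAut_apply]
    simp only [R4, rootC_apply, tv_mulVec, single_dotProduct, one_mul]
    rfl
  have hgv : ∀ v, colAut (R4 * E) v = v + v 3 • u + v 1 • e0 := fun v => by
    rw [colAut_apply, Matrix.SpecialLinearGroup.coe_mul, ← mulVec_mulVec]
    simp only [R4, E, rootC_apply, tv_mulVec, single_dotProduct, one_mul]
    rw [Pi.add_apply, show (v 3 • (Pi.single (2 : Fin 4) (1 : F) : Fin 4 → F)) 1 = 0 by simp, add_zero]
  -- the trace of the root element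
  have hs : LinearMap.trace ℂ V (ρ (emb R4)) = 8 := by
    have h := card_wd_nonzero (A := colA ρ)
      (fun v hv => trace_col_root ρ (by omega) (show (1 : Fin 4) ≠ 0 by decide) hv) hχ₁
    rw [hone χ₁ hχ₁, card_col, hq, hk24] at h
    norm_num at h
    linear_combination h
  have hcR : ∀ v, ρ (emb R4) * colA ρ v = colA ρ (colAut R4 v) * ρ (emb R4) :=
    act_conj ρ (colC F 4) _ (emb_mul_colC R4)
  have ht : ∀ χ, χ ≠ 0 → LinearMap.trace ℂ V (ρ (emb R4) * wp (colA ρ) χ) = ind χ e0 := fun χ hχ => by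
    by_cases hfix : ∀ v, χ (colAut R4 v) = χ v
    · have h1 : χ e0 = 1 := (fixed_iff hq χ e0 1).1 fun v => by rw [← hR4v]; exact hfix v
      rw [show ρ (emb R4) * wp (colA ρ) χ = wp (colA ρ) χ from
        fix_root ρ (Or.inr (Or.inr le_rfl)) rfl rfl (show (1 : Fin 4) ≠ 0 by decide) (hone χ hχ) hfix,
        trace_wp, hone χ hχ, ind, if_pos h1, Nat.cast_one]
    · have h1 : χ e0 ≠ 1 := fun h => hfix fun v => by rw [hR4v]; exact (fixed_iff hq χ e0 1).2 h v
      rw [trace_mul_wp_eq_zero (colAut R4) hcR hfix, ind, if_neg h1]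
  have ht0 : LinearMap.trace ℂ V (ρ (emb R4) * wp (colA ρ) 0) = 1 := by
    have h : LinearMap.trace ℂ V (ρ (emb R4)) = ∑ χ : AddChar (Fin 4 → F) ℂ, (ind χ e0 +
        if χ = 0 then LinearMap.trace ℂ V (ρ (emb R4) * wp (colA ρ) 0) - 1 else 0) := by
      rw [trace_eq_sum (A := colA ρ)]
      refine Finset.sum_congr rfl fun χ _ => ?_
      by_cases hχ : χ = 0
      · subst hχ; simp [ind]
      · rw [if_neg hχ, add_zero, ht χ hχ]
    rw [hs, Finset.sum_add_distrib, sum_ind hq he0, Finset.sum_ite_eq', if_pos (Finset.mem_univ _)] at h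
    linear_combination -h
  -- the twisted element has trace zero
  have htw : LinearMap.trace ℂ V (ρ (emb R4 * col u)) = 0 := by
    rw [trace_eq_sum (A := colA ρ), Finset.sum_congr rfl (g := fun χ : AddChar (Fin 4 → F) ℂ => ind χ e0 * χ u)
      fun χ _ => ?_, sum_ind_mul hq he0 u, sum_char u, sum_char (e0 + u), if_neg hu, if_neg he0u]
    · norm_num
    · rw [map_mul ρ, mul_assoc, show ρ (col u) * wp (colA ρ) χ = χ u • wp (colA ρ) χ from mul_wp (colA ρ) χ u,
        mul_smul_comm, map_smul, smul_eq_mul, mul_comm]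
      by_cases hχ : χ = 0
      · subst hχ; simp [ind, ht0]
      · rw [ht χ hχ]
  -- it is conjugate to a Levi element
  let a : Fin 5 → F := Pi.single 3 1 + Pi.single 4 1
  have haa : a ⬝ᵥ a = 0 := by
    simp [a, add_dotProduct, one_add_one_two hq]
  have hπ : tv a a haa * emb (R4 * E) = emb R4 * col u * tv a a haa := by
    have hu5 : col u = rootC (2 : Fin 5) 4 (by decide) (1 : F) := col_single _ _
    have hR5 : emb R4 = rootC (0 : Fin 5) 1 (by decide) (1 : F) := emb_rootC _ _
    have hE5 : emb E = rootC (2 : Fin 5) 3 (by decide) (1 : F) := emb_rootC _ _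
    have h1 : tv a a haa * rootC (0 : Fin 5) 1 (by decide) (1 : F) =
        rootC (0 : Fin 5) 1 (by decide) (1 : F) * tv a a haa :=
      mul_tv (single_dot_single (by decide) _) (single_dot_single (by decide) _) 1
        (by rw [one_smul, tv_mulVec]; simp [a])
        (by rw [one_smul, tv_vecMul]; simp [a])
    have h2 : tv a a haa * rootC (2 : Fin 5) 3 (by decide) (1 : F) =
        rootC (2 : Fin 5) 4 (by decide) (1 : F) * tv a a haa :=
      mul_tv (single_dot_single (by decide) _) (single_dot_single (by decide) _) 1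
        (by rw [one_smul, tv_mulVec]; simp [a])
        (by
          rw [one_smul, tv_vecMul]
          have : (Pi.single 4 1 : Fin 5 → F) ⬝ᵥ a = 1 := by simp [a]
          rw [this, one_smul, add_comm, add_assoc, add_self_two hq, add_zero])
    rw [map_mul, hu5, hR5, hE5, ← mul_assoc, h1, mul_assoc, h2, ← mul_assoc]
  have hψ' : LinearMap.trace ℂ _ (levi ρ (R4 * E)) = -3 := by
    have h : LinearMap.trace ℂ V (ρ (emb (R4 * E))) = ∑ χ : AddChar (Fin 4 → F) ℂ, (ind χ e0 * ind χ u +
        if χ = 0 then LinearMap.trace ℂ V (ρ (emb (R4 * E)) * wp (colA ρ) 0) - 1 else 0) := by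
      rw [trace_eq_sum (A := colA ρ)]
      refine Finset.sum_congr rfl fun χ _ => ?_
      by_cases hχ : χ = 0
      · subst hχ; simp [ind]
      rw [if_neg hχ, add_zero]
      by_cases hfix : χ e0 = 1 ∧ χ u = 1
      · obtain ⟨φ, hφ⟩ := exists_dual ψ hψ χ
        have h0 := dual_eq_zero hq hψ hφ hfix.1
        have h2 := dual_eq_zero hq hψ hφ hfix.2
        rw [map_mul emb, map_mul ρ, mul_assoc,
          show ρ (emb E) * wp (colA ρ) χ = wp (colA ρ) χ from
            fix_rootC ρ hφ (hone χ hχ) (k := 0) _ (by decide) (by decide) h2 h0,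
          show ρ (emb R4) * wp (colA ρ) χ = wp (colA ρ) χ from
            fix_rootC ρ hφ (hone χ hχ) (k := 2) _ (by decide) (by decide) h0 h2,
          trace_wp, hone χ hχ, ind, ind, if_pos hfix.1, if_pos hfix.2, Nat.cast_one, mul_one]
      · have hnf : ¬ ∀ v, χ (colAut (R4 * E) v) = χ v := fun h => hfix
          ⟨eq_one_of_add hq χ (x := Pi.single 1 1) (by simpa [hgv] using h (Pi.single 1 1)),
            eq_one_of_add hq χ (x := Pi.single 3 1) (by simpa [hgv] using h (Pi.single 3 1))⟩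
        rw [trace_mul_wp_eq_zero (colAut (R4 * E)) (act_conj ρ (colC F 4) _ (emb_mul_colC _)) hnf, ind, ind]
        by_cases h1 : χ e0 = 1
        · rw [if_pos h1, if_neg fun h => hfix ⟨h1, h⟩, mul_zero]
        · rw [if_neg h1, zero_mul]
    rw [trace_conj ρ hπ, htw, Finset.sum_add_distrib, sum_ind_ind hq he0 hu he0u, Finset.sum_ite_eq',
      if_pos (Finset.mem_univ _), ← trace_levi] at h
    linear_combination -h
  -- the inner weights bound that trace below by `-1`
  let f0 : Fin 3 → F := Pi.single 0 1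
  have hf0 : f0 ≠ 0 := single_ne _ one_ne_zero
  have hRv : ∀ v, colAut R v = v + v 1 • f0 := fun v => by
    rw [colAut_apply]
    simp only [R, rootC_apply, tv_mulVec, single_dotProduct, one_mul]
    rfl
  have hRw : emb R * col w = col w * emb R := by
    have := emb_mul_col R w
    rw [this, ← colAut_apply, hRv]
    simp [w]
  have hgE : R4 * E = emb R * col w := by rw [hR, hE]
  have hgconj : ∀ v, (R4 * E) * colC F 3 v = colC F 3 (colAut R v) * (R4 * E) := fun v => by
    rw [hgE, colC_apply, colC_apply, mul_assoc, ← col_add, add_comm w v, col_add, ← mul_assoc,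
      show emb R * col v = col (colAut R v) * emb R from emb_mul_col R v, mul_assoc]
  have hsq : (R4 * E) * (R4 * E) = 1 := by
    rw [hgE, mul_assoc, ← mul_assoc (col w), ← hRw, mul_assoc (emb R), ← col_add, add_self_two hq, col_zero,
      mul_one, ← map_mul, rootC_sq hq, map_one]
  have hT : ∀ φ : AddChar (Fin 3 → F) ℂ,
      (if φ = 0 then (3 : ℝ) else 0) - (ind φ f0).re ≤
        (LinearMap.trace ℂ _ (levi ρ (R4 * E) * wp (colA (r := 3) (levi ρ)) φ)).re := fun φ => by
    by_cases hφ : φ = 0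
    · subst hφ
      have hw0 : levi ρ (col w) * wp (colA (r := 3) (levi ρ)) 0 = wp (colA (r := 3) (levi ρ)) 0 := by
        rw [show levi ρ (col w) = colA (r := 3) (levi ρ) w from rfl, mul_wp, AddChar.zero_apply, one_smul]
      have hr0 := (levi_eq_one_iff (r := 3) (levi ρ) R).1 hR1
      rw [hgE, map_mul (levi ρ), mul_assoc, hw0, hr0, trace_wp, hc2, if_pos rfl, ind, AddChar.zero_apply, if_pos rfl]
      norm_num
    rw [if_neg hφ, zero_sub]
    by_cases hfix : φ f0 = 1
    · have hmem : (R4 * E) ∈ wstab (levi ρ) (colA (r := 3) (levi ρ)) φ :=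
        commute_wp (levi ρ) (colC F 3) (colAut R) hgconj fun v => by
          rw [hRv]; exact (fixed_iff hq φ f0 1).2 hfix v
      obtain ⟨μ, hμ⟩ := exists_scalar (hone' φ hφ) hmem
      have h2 : (μ * μ) • wp (colA (r := 3) (levi ρ)) φ = (1 : ℂ) • wp (colA (r := 3) (levi ρ)) φ := by
        rw [one_smul]
        conv_rhs => rw [← one_mul (wp (colA (r := 3) (levi ρ)) φ), ← map_one (levi ρ), ← hsq, map_mul,
          mul_assoc, hμ, mul_smul_comm, hμ, smul_smul]
      have hne : wp (colA (r := 3) (levi ρ)) φ ≠ 0 := fun h => by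
        have := hone' φ hφ
        rw [wd, h, LinearMap.range_zero, finrank_bot] at this
        omega
      rw [hμ, map_smul, trace_wp, hone' φ hφ, ind, if_pos hfix]
      rcases mul_self_eq_one_iff.1 (smul_left_injective ℂ hne h2) with rfl | rfl <;> norm_num
    · rw [trace_mul_wp_eq_zero (colAut R) (act_conj (levi ρ) (colC F 3) _ hgconj)
        (fun h => hfix ((fixed_iff hq φ f0 1).1 fun v => by rw [← hRv]; exact h v)), ind, if_neg hfix]
      norm_num
  have hfin := Finset.sum_le_sum fun φ (_ : φ ∈ Finset.univ) => hT φ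
  rw [← Complex.re_sum, ← trace_eq_sum (A := colA (r := 3) (levi ρ)), hψ', Finset.sum_sub_distrib,
    Finset.sum_ite_eq', if_pos (Finset.mem_univ _), ← Complex.re_sum, sum_ind hq hf0] at hfin
  norm_num at hfin

end CfsgLib.FgsC.MinDeg
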