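import Mathlib
import Cfsg.Agent.Lib.FgsC.MinDeg.Lower

/-!
The three cases `(n, q) = (4, 4), (5, 3), (5, 2)`, where the dimension `n - 1` is exceptional.
-/

set_option autoImplicit false

namespace CfsgLib.FgsC.MinDeg

open Matrix Module

variable {F : Type*} [Field F] [Fintype F] {V : Type} [AddCommGroup V] [Module ℂ V] [FiniteDimensional ℂ V]

/-- For `q ≥ 3` the Levi representation of the Levi representation is non-trivial, given simple weights. -/
theorem inner_levi_ne {r' : ℕ} (hr : 2 ≤ r') (hq : 3 ≤ Fintype.card F)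
    (ρ : Representation ℂ (Matrix.SpecialLinearGroup (Fin (r' + 1 + 1)) F) V)
    (hone : ∀ χ : AddChar (Fin r' → F) ℂ, χ ≠ 0 → wd (colA (levi ρ)) χ = 1)
    {i0 i1 : Fin r'} (h0 : (i0 : ℕ) = 0) (h10 : i1 ≠ i0) :
    levi (levi ρ) (rootC i0 i1 h10 (1 : F)) ≠ 1 := by
  classical
  refine levi_root_ne (levi ρ) hr hone h10 fun χ hχ hf => ?_
  set ψ := AddChar.FiniteField.primitiveChar_to_Complex F
  have hψ : ψ.IsPrimitive := AddChar.FiniteField.primitiveChar_to_Complex_isPrimitive F
  obtain ⟨φ, hφ⟩ := exists_dual ψ hψ χ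
  have hφ0 : φ i0 = 0 := dual_zero hψ hφ h10 hf
  obtain ⟨u, hu⟩ := exists_pow_ne_one (F := F) (m := 1) fun h => by
    have := Nat.le_of_dvd one_pos h
    omega
  rw [pow_one] at hu
  set t : F := (u : F)
  have ht0 : t ≠ 0 := u.ne_zero
  have ht1 : t ≠ 1 := fun h => hu (Units.ext h)
  let d : Fin (r' + 1 + 1) → F := Pi.mulSingle 0 t * Pi.mulSingle (Fin.last _) t⁻¹
  have hd : ∏ i, d i = 1 := by
    simp [d, Finset.prod_mul_distrib, Fintype.prod_pi_mulSingle', ht0]
  have hdv : ∀ i : Fin r', d i.castSucc.castSucc = if i = i0 then t else 1 := fun i => by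
    have hl : i.castSucc.castSucc ≠ Fin.last (r' + 1) := (Fin.castSucc_lt_last _).ne
    by_cases hi : i = i0
    · subst hi
      have h00 : i.castSucc.castSucc = 0 := Fin.ext (by simpa using h0)
      rw [h00] at hl
      rw [if_pos rfl, h00]
      simp [d, Pi.mulSingle_eq_of_ne hl]
    · have h00 : i.castSucc.castSucc ≠ 0 := fun h => hi (Fin.ext (by
        have := congrArg Fin.val h
        simp at this
        omega))
      simp [d, Pi.mulSingle_eq_of_ne hl, Pi.mulSingle_eq_of_ne h00, hi]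
  have hdm : d (Fin.last r').castSucc = 1 := by
    have h00 : (Fin.last r').castSucc ≠ (0 : Fin (r' + 1 + 1)) := fun h => by
      have := congrArg Fin.val h
      simp at this
      omega
    simp [d, Pi.mulSingle_eq_of_ne h00, Pi.mulSingle_eq_of_ne (Fin.castSucc_lt_last (Fin.last r')).ne]
  let toW := (emb : Matrix.SpecialLinearGroup (Fin (r' + 1)) F →* _).codRestrict (wstab ρ (colA ρ) 0)
    (emb_mem_wstab_zero ρ)
  let w : (Fin r' → F) →+ (Fin r' → F) :=
    { toFun := fun v i => (if i = i0 then t else 1) * v i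
      map_zero' := by funext i; simp
      map_add' := fun a b => by funext i; simp [mul_add] }
  have hw : Function.Injective w := fun a b h => by
    funext i
    have := congrFun h i
    exact mul_left_cancel₀ (by split_ifs; exacts [ht0, one_ne_zero]) this
  have hg : (⟨dg d hd, dg_mem_wstab_zero ρ hd⟩ : wstab ρ (colA ρ) 0) ∈
      wstab (fixRep ρ (colA ρ)) (act (fixRep ρ (colA ρ)) (toW.compAddChar (colC F r'))) χ := by
    refine commute_wp (fixRep ρ (colA ρ)) _ (autOf w hw) (fun v => Subtype.ext ?_) fun v => ?_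
    · change dg d hd * emb (col v) = emb (col (w v)) * dg d hd
      rw [col, col, emb_tv, emb_tv]
      refine mul_tv _ _ 1 ?_ ?_
      · change diagonal d *ᵥ ext0 (ext0 v) = (1 : F) • ext0 (ext0 (w v))
        funext i
        rw [mulVec_diagonal, one_smul]
        refine Fin.lastCases ?_ ?_ i
        · simp
        · intro j
          refine Fin.lastCases ?_ ?_ j
          · simp
          · intro l
            simp only [Fin.snoc_castSucc, hdv]
            rfl
      · change ext0 (lastE F r') ᵥ* diagonal d = (1 : F) • ext0 (lastE F r')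
        funext i
        rw [vecMul_diagonal, one_smul]
        refine Fin.lastCases ?_ ?_ i
        · simp
        · intro j
          refine Fin.lastCases ?_ ?_ j
          · simp [hdm]
          · intro l
            simp [Pi.single_eq_of_ne (Fin.castSucc_lt_last l).ne]
    · rw [hφ, hφ, autOf_apply]
      congr 1
      refine Finset.sum_congr rfl fun i _ => ?_
      change φ i * ((if i = i0 then t else 1) * v i) = φ i * v i
      by_cases hi : i = i0
      · subst hi; simp [hφ0]
      · simp [hi]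
  refine scale_fix (fixRep ρ (colA ρ)) (A := colA (levi ρ)) (hone χ hχ)
    (toW.compAddChar ((emb : Matrix.SpecialLinearGroup (Fin r') F →* _).compAddChar (rootC i0 i1 h10)))
    (fun a => emb_tv_mem_wstab (levi ρ) hφ (single_dot_single h10 a)
      (by rw [dotProduct_single, hφ0, zero_mul])) hg (c := t) ht1 fun a => Subtype.ext ?_
  change dg d hd * emb (emb (rootC i0 i1 h10 a)) = emb (emb (rootC i0 i1 h10 (t * a))) * dg d hd
  rw [emb_rootC, emb_rootC, emb_rootC, emb_rootC]
  refine dg_mul_rootC hd _ t ?_ a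
  rw [hdv, hdv, if_pos rfl, if_neg h10, one_mul]

/-- `(n, q) = (4, 4)`. -/
theorem bound_four_four (hq : Fintype.card F = 4)
    (ρ : Representation ℂ (Matrix.SpecialLinearGroup (Fin (3 + 1)) F) V) [ρ.IsIrreducible]
    (hone : ∀ χ : AddChar (Fin 3 → F) ℂ, χ ≠ 0 → wd (colA ρ) χ = 1)
    (hroot : levi ρ (rootC (0 : Fin 3) 1 (by decide) (1 : F)) ≠ 1) :
    bnd (Fintype.card F) 4 ≤ finrank ℂ V := by
  by_contra hlt
  push Not at hlt
  obtain ⟨χ₁, hχ₁⟩ := exists_ne_zero_char (F := F) (r := 3) (by omega)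
  obtain ⟨χ₂, hχ₂⟩ := exists_ne_zero_char (F := F) (r := 2) (by omega)
  have hk := finrank_col ρ (by omega) hχ₁
  rw [hone χ₁ hχ₁, hq] at hk
  obtain ⟨X, hX, hd⟩ := degree_dvd ρ (by omega) hone
  rw [hq] at hX hd hlt
  have hnt : ∃ g, levi ρ g ≠ 1 := ⟨_, hroot⟩
  have hc := le_finrank_col (r := 2) (levi ρ) le_rfl hnt
  have hc' := finrank_col (r := 2) (levi ρ) le_rfl hχ₂
  have hm := wd_col_pos (r := 2) (levi ρ) le_rfl hnt hχ₂
  rw [hq] at hc hc'
  change _ ≤ wd (colA ρ) 0 at hc
  change wd (colA ρ) 0 = _ at hc'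
  norm_num [bnd] at hlt hk hX hd hc hc'
  have hm1 : wd (colA (r := 2) (levi ρ)) χ₂ = 1 := by omega
  have hin := three_bound (levi ρ) (inner_levi_ne (r' := 2) le_rfl (by omega) ρ
    (fun χ hχ => (wd_col_eq (r := 2) (levi ρ) le_rfl hχ hχ₂).trans hm1) (i0 := 0) rfl (by decide))
  rw [hq] at hin
  rw [hm1] at hc'
  have hX' : X = 5355 := by omega
  subst hX'
  generalize finrank ℂ V = k at *
  interval_cases k <;> omega

/-- `(n, q) = (5, 3)`. -/
theorem bound_five_three (hq : Fintype.card F = 3)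
    (ρ : Representation ℂ (Matrix.SpecialLinearGroup (Fin (4 + 1)) F) V) [ρ.IsIrreducible]
    (hone : ∀ χ : AddChar (Fin 4 → F) ℂ, χ ≠ 0 → wd (colA ρ) χ = 1)
    (hroot : levi ρ (rootC (0 : Fin 4) 1 (by decide) (1 : F)) ≠ 1) :
    bnd (Fintype.card F) 5 ≤ finrank ℂ V := by
  by_contra hlt
  push Not at hlt
  obtain ⟨χ₁, hχ₁⟩ := exists_ne_zero_char (F := F) (r := 4) (by omega)
  obtain ⟨χ₂, hχ₂⟩ := exists_ne_zero_char (F := F) (r := 3) (by omega)
  have hk := finrank_col ρ (by omega) hχ₁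
  rw [hone χ₁ hχ₁, hq] at hk
  obtain ⟨X, hX, hd⟩ := degree_dvd ρ (by omega) hone
  rw [hq] at hX hd hlt
  have hnt : ∃ g, levi ρ g ≠ 1 := ⟨_, hroot⟩
  have hc := le_finrank_col (r := 3) (levi ρ) (by omega) hnt
  have hc' := finrank_col (r := 3) (levi ρ) (by omega) hχ₂
  have hm := wd_col_pos (r := 3) (levi ρ) (by omega) hnt hχ₂
  rw [hq] at hc hc'
  change _ ≤ wd (colA ρ) 0 at hc
  change wd (colA ρ) 0 = _ at hc'
  norm_num [bnd] at hlt hk hX hd hc hc'
  have hm1 : wd (colA (r := 3) (levi ρ)) χ₂ = 1 := by omega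
  have hne := inner_levi_ne (r' := 3) (by omega) (by omega) ρ
    (fun χ hχ => (wd_col_eq (r := 3) (levi ρ) (by omega) hχ hχ₂).trans hm1) (i0 := 0) (i1 := 1) rfl (by decide)
  have hin := le_finrank_col (r := 2) (levi (r := 3) (levi ρ)) le_rfl ⟨_, hne⟩
  rw [hq] at hin
  change _ ≤ wd (colA (r := 3) (levi ρ)) 0 at hin
  norm_num at hin
  rw [hm1] at hc'
  have hX' : X = 9680 := by omega
  subst hX'
  generalize finrank ℂ V = k at *
  interval_cases k <;> omega

end CfsgLib.FgsC.MinDeg
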