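import Mathlib
import Cfsg.Agent.Lib.FgsC.MinDeg.Special
import Cfsg.Agent.Lib.FgsC.MinDeg.FiveTwo

/-!
The lower bound `(q^n - q)/(q - 1)` for non-trivial representations of `SL_n(q)`, by induction on `n`.
-/

set_option autoImplicit false

namespace CfsgLib.FgsC.MinDeg

open Matrix Module

variable {F : Type*} [Field F] [Fintype F]

/-- The pairs `(n, q)` where the bound holds. -/
def Allowed (q n : ℕ) : Prop := (n, q) ≠ (3, 2) ∧ (n, q) ≠ (3, 4) ∧ (n, q) ≠ (4, 2) ∧ (n, q) ≠ (4, 3)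

theorem card_ne_ten : Fintype.card F ≠ 10 := by
  obtain ⟨p, hp⟩ := CharP.exists F
  obtain ⟨n, hpp, he⟩ := FiniteField.card F p
  intro h
  rw [h] at he
  have h2 : 2 ∣ p ^ (n : ℕ) := ⟨5, by rw [← he]⟩
  have h5 : 5 ∣ p ^ (n : ℕ) := ⟨2, by rw [← he]⟩
  have e2 := (Nat.prime_dvd_prime_iff_eq Nat.prime_two hpp).1 (Nat.prime_two.dvd_of_dvd_pow h2)
  have e5 := (Nat.prime_dvd_prime_iff_eq (by norm_num) hpp).1
    ((show Nat.Prime 5 by norm_num).dvd_of_dvd_pow h5)
  omega

theorem irr_bound {r : ℕ} (hr : 2 ≤ r) (hal : Allowed (Fintype.card F) (r + 1))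
    (ih : 3 ≤ r → Allowed (Fintype.card F) r → ∀ (W : Type) [AddCommGroup W] [Module ℂ W] [FiniteDimensional ℂ W]
      (σ : Representation ℂ (Matrix.SpecialLinearGroup (Fin r) F) W),
        (∃ g, σ g ≠ 1) → bnd (Fintype.card F) r ≤ finrank ℂ W)
    {V : Type} [AddCommGroup V] [Module ℂ V] [FiniteDimensional ℂ V]
    (ρ : Representation ℂ (Matrix.SpecialLinearGroup (Fin (r + 1)) F) V) [ρ.IsIrreducible]
    (hnt : ∃ g, ρ g ≠ 1) : bnd (Fintype.card F) (r + 1) ≤ finrank ℂ V := by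
  have hq : 2 ≤ Fintype.card F := Fintype.one_lt_card
  obtain ⟨χ₁, hχ₁⟩ := exists_ne_zero_char (F := F) (r := r) (by omega)
  have hk := finrank_col ρ hr hχ₁
  have hm := wd_col_pos ρ hr hnt hχ₁
  have hlt := bnd_add_two_le hq (show 1 ≤ r by omega)
  rcases Nat.lt_or_ge (wd (colA ρ) χ₁) 2 with hm2 | hm2
  swap
  · rw [bnd_succ hq (by omega)]
    have : (Fintype.card F ^ r - 1) * 2 ≤ (Fintype.card F ^ r - 1) * wd (colA ρ) χ₁ := Nat.mul_le_mul_left _ hm2
    omega
  have hm1 : wd (colA ρ) χ₁ = 1 := by omega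
  have hone : ∀ χ : AddChar (Fin r → F) ℂ, χ ≠ 0 → wd (colA ρ) χ = 1 := fun χ hχ =>
    (wd_col_eq ρ hr hχ hχ₁).trans hm1
  obtain ⟨e1, e2, e3, e4⟩ := hal
  simp only [ne_eq, Prod.mk.injEq, not_and] at e1 e2 e3 e4
  have hgood : Good r (Fintype.card F) := by
    unfold Good
    omega
  have hroot := levi_root_ne_of_good ρ hr hgood hone (i0 := ⟨0, by omega⟩) (i1 := ⟨1, by omega⟩) rfl rfl
    (by simp [Fin.ext_iff])
  rw [hm1, mul_one] at hk
  obtain ⟨X, hX, hd⟩ := degree_dvd ρ hr hone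
  rcases Nat.eq_or_lt_of_le hr with h2 | h3
  · subst h2
    have hin := three_bound ρ hroot
    rw [bnd_succ hq (by omega), bnd_two hq]
    by_contra hk2
    rcases Nat.lt_or_ge (wd (colA ρ) 0) (Fintype.card F) with hc | hc
    · have he : finrank ℂ V = (Fintype.card F + 2) * (Fintype.card F - 1) := by
        obtain ⟨Q, hQ⟩ : ∃ Q, Fintype.card F = Q + 1 := ⟨Fintype.card F - 1, by omega⟩
        rw [hk, show wd (colA ρ) 0 = Fintype.card F - 1 by omega, hQ, Nat.add_sub_cancel,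
          show (Q + 1) ^ 2 = Q * Q + 2 * Q + 1 by ring, Nat.add_sub_cancel]
        ring
      rw [he] at hd
      rcases no_dvd_three hq hX hd with h | h | h
      · exact e1 rfl h
      · exact e2 rfl h
      · exact card_ne_ten h
    · refine no_dvd hq le_rfl hX ?_
      rwa [bnd_two hq, show Fintype.card F ^ 2 - 1 + Fintype.card F = finrank ℂ V by omega]
  by_cases hr' : Allowed (Fintype.card F) r
  · have hc : bnd (Fintype.card F) r ≤ wd (colA ρ) 0 := ih h3 hr' _ (levi ρ) ⟨_, hroot⟩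
    rw [bnd_succ hq (by omega)]
    by_contra hk2
    refine no_dvd hq hr hX ?_
    rwa [show Fintype.card F ^ r - 1 + bnd (Fintype.card F) r = finrank ℂ V by omega]
  · simp only [Allowed, ne_eq, Prod.mk.injEq, not_and] at hr'
    obtain ⟨rfl, hq4⟩ | ⟨rfl, hq23⟩ : (r = 3 ∧ Fintype.card F = 4) ∨
        (r = 4 ∧ (Fintype.card F = 2 ∨ Fintype.card F = 3)) := by omega
    · exact bound_four_four hq4 ρ hone hroot
    · rcases hq23 with h | h
      · exact bound_five_two h ρ hone hroot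
      · exact bound_five_three h ρ hone hroot

theorem bound (n : ℕ) : 3 ≤ n → Allowed (Fintype.card F) n → ∀ (V : Type) [AddCommGroup V] [Module ℂ V]
    [FiniteDimensional ℂ V] (ρ : Representation ℂ (Matrix.SpecialLinearGroup (Fin n) F) V),
      (∃ g, ρ g ≠ 1) → bnd (Fintype.card F) n ≤ finrank ℂ V := by
  classical
  induction n using Nat.strong_induction_on with
  | h n ih =>
    intro hn hal V _ _ _ ρ
    obtain ⟨r, rfl⟩ : ∃ r, n = r + 1 := ⟨n - 1, by omega⟩
    refine CfsgLib.Chars.rep_induction (P := fun V _ _ _ ρ =>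
      (∃ g, ρ g ≠ 1) → bnd (Fintype.card F) (r + 1) ≤ finrank ℂ V) ?_ ?_ ?_ V ρ
    · intro W _ _ _ σ hW hnt
      obtain ⟨g, hg⟩ := hnt
      exact absurd (Subsingleton.elim _ _) hg
    · intro W _ _ _ σ hσ hnt
      exact irr_bound (by omega) hal (ih r (by omega)) σ hnt
    · intro W _ _ _ σ U U' hc hU hU' hnt
      by_cases h : ∃ g, U.toRepresentation g ≠ 1
      · exact (hU h).trans (Submodule.finrank_le _)
      by_cases h' : ∃ g, U'.toRepresentation g ≠ 1
      · exact (hU' h').trans (Submodule.finrank_le _)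
      exfalso
      push Not at h h'
      obtain ⟨g, hg⟩ := hnt
      refine hg (LinearMap.ext fun x => ?_)
      obtain ⟨u, hu, u', hu', rfl⟩ := Submodule.mem_sup.1 (show x ∈ U.toSubmodule ⊔ U'.toSubmodule by
        rw [hc.sup_eq_top]; exact Submodule.mem_top)
      have h1 : σ g u = u := congrArg Subtype.val (LinearMap.congr_fun (h g) ⟨u, hu⟩)
      have h2 : σ g u' = u' := congrArg Subtype.val (LinearMap.congr_fun (h' g) ⟨u', hu'⟩)
      rw [map_add, h1, h2, Module.End.one_apply]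

end CfsgLib.FgsC.MinDeg
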